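/-
The values taken by a map whose polar is a bi-additive pairing, with all `β(·, h)` surjective for `h ≠ 0`.
-/
import Mathlib

set_option autoImplicit false

namespace CfsgLib.Geo.SympTwoOver

open Finset

variable {W A : Type*} [AddCommGroup W] [Fintype W] [DecidableEq W] [AddCommGroup A] [Fintype A] [DecidableEq A]
  {f : W → A} {β : W → W → A}

theorem card_eq_of_hom (hadd : ∀ x y h, β (x + y) h = β x h + β y h) {h : W}
    (hsur : ∀ a, ∃ x, β x h = a) (a : A) :
    (univ.filter fun x => β x h = a).card * Fintype.card A = Fintype.card W := by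
  have key : ∀ b, (univ.filter fun x => β x h = b).card = (univ.filter fun x => β x h = a).card := by
    intro b
    obtain ⟨x₀, hx₀⟩ := hsur (b - a)
    refine (Finset.card_equiv (Equiv.addRight x₀) fun x => ?_).symm
    simp only [mem_filter, mem_univ, true_and, Equiv.coe_addRight, hadd, hx₀]
    constructor <;> intro e
    · rw [e]; abel
    · rw [show β x h = β x h + (b - a) - (b - a) by abel, e]; abel
  have h1 := Finset.card_eq_sum_card_fiberwise (f := fun x => β x h) (s := (univ : Finset W)) (t := univ)
    (fun x _ => mem_univ _)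
  rw [Finset.sum_congr rfl (fun b _ => key b), Finset.sum_const, Finset.card_univ, Finset.card_univ,
    smul_eq_mul] at h1
  rw [h1, mul_comm]

/-- The sum of the squares of the sizes of the fibres. -/
theorem sum_sq_fibres (hβl : ∀ x y h, β (x + y) h = β x h + β y h) (hβ0 : ∀ x, β x 0 = 0)
    (hf : ∀ x h, f (x + h) = f x + f h + β x h) (hsur : ∀ h, h ≠ 0 → ∀ a, ∃ x, β x h = a) :
    Fintype.card A * ∑ a : A, (univ.filter fun x => f x = a).card ^ 2 =
      Fintype.card A * Fintype.card W + (Fintype.card W - 1) * Fintype.card W := by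
  have hf0 : f 0 = 0 := by
    have := hf 0 0
    rw [add_zero, hβ0, add_zero] at this
    simpa using this
  have h1 : ∑ a : A, (univ.filter fun x => f x = a).card ^ 2 =
      ∑ x : W, (univ.filter fun y => f y = f x).card := by
    rw [← Finset.sum_fiberwise univ f fun x => (univ.filter fun y => f y = f x).card]
    refine Finset.sum_congr rfl fun a _ => ?_
    rw [Finset.sum_congr rfl (g := fun _ => (univ.filter fun x => f x = a).card) (fun x hx => by
      rw [(mem_filter.1 hx).2]), Finset.sum_const, smul_eq_mul, sq]
  have h2 : ∀ x : W, (univ.filter fun y => f y = f x).card = (univ.filter fun h => f h + β x h = 0).card := by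
    intro x
    refine Finset.card_bij (fun y _ => y - x) ?_ ?_ ?_
    · intro y hy
      simp only [mem_filter, mem_univ, true_and] at hy ⊢
      have := hf x (y - x)
      rw [add_sub_cancel, hy, add_assoc] at this
      exact left_eq_add.1 this
    · intro a _ b _ e
      exact sub_left_inj.1 e
    · intro h hh
      simp only [mem_filter, mem_univ, true_and] at hh
      refine ⟨x + h, ?_, add_sub_cancel_left x h⟩
      simp only [mem_filter, mem_univ, true_and]
      rw [hf, add_assoc, hh, add_zero]
  rw [h1, Finset.sum_congr rfl (fun x _ => h2 x)]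
  simp only [Finset.card_filter]
  rw [Finset.sum_comm]
  simp only [← Finset.card_filter]
  rw [Finset.mul_sum, ← Finset.add_sum_erase _ _ (mem_univ (0 : W))]
  congr 1
  · rw [hf0]
    simp [hβ0]
  · rw [Finset.sum_congr rfl (g := fun _ => Fintype.card W) (fun h hh => by
      rw [mul_comm, show (univ.filter fun x => f h + β x h = 0) = univ.filter fun x => β x h = -f h from
        Finset.filter_congr fun x _ => by rw [add_eq_zero_iff_neg_eq, eq_comm]]
      exact card_eq_of_hom hβl (hsur h (Finset.ne_of_mem_erase hh)) _), Finset.sum_const,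
      Finset.card_erase_of_mem (mem_univ _), Finset.card_univ, smul_eq_mul]

/-- Every value is taken, at a non-zero argument unless possibly the value is zero and the count is critical. -/
theorem exists_value (hβl : ∀ x y h, β (x + y) h = β x h + β y h) (hβ0 : ∀ x, β x 0 = 0)
    (hf : ∀ x h, f (x + h) = f x + f h + β x h) (hsur : ∀ h, h ≠ 0 → ∀ a, ∃ x, β x h = a)
    (c : A) (hq : 2 ≤ Fintype.card A) (hm : Fintype.card A ^ 2 ≤ Fintype.card W)
    (hc : c ≠ 0 ∨ Fintype.card A ^ 2 < Fintype.card W) : ∃ w, w ≠ 0 ∧ f w = c := by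
  by_contra! hno
  have key := sum_sq_fibres hβl hβ0 hf hsur
  set N : A → ℕ := fun a => (univ.filter fun x => f x = a).card
  change Fintype.card A * ∑ a : A, N a ^ 2 = _ at key
  have hsum : ∑ a : A, N a = Fintype.card W := by
    rw [← Finset.card_univ (α := W)]
    exact (Finset.card_eq_sum_card_fiberwise (fun x _ => mem_univ (f x))).symm
  have hNc : N c ≤ 1 := Finset.card_le_one.2 fun x hx y hy => by
    simp only [mem_filter, mem_univ, true_and] at hx hy
    by_contra hne
    rcases eq_or_ne x 0 with h | h
    · exact hno y (fun e => hne (h.trans e.symm)) hy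
    · exact hno x h hx
  have hcs := sq_sum_le_card_mul_sum_sq (s := univ.erase c) (f := N)
  rw [Finset.card_erase_of_mem (mem_univ c), Finset.card_univ] at hcs
  rw [← Finset.add_sum_erase _ _ (mem_univ c)] at hsum key
  have hf0 : f 0 = 0 := by
    have := hf 0 0
    rw [add_zero, hβ0, add_zero] at this
    simpa using this
  set P := ∑ a ∈ univ.erase c, N a
  set R := ∑ a ∈ univ.erase c, N a ^ 2
  set q := Fintype.card A
  set m := Fintype.card W
  obtain ⟨k, hk⟩ : ∃ k, q = k + 1 := ⟨q - 1, by omega⟩
  obtain ⟨l, hl⟩ : ∃ l, m = l + 1 := ⟨m - 1, by have : 0 < m := Fintype.card_pos; omega⟩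
  rw [hk, Nat.add_sub_cancel, Nat.cast_id] at hcs
  rw [hl, Nat.add_sub_cancel, hk] at key
  rcases eq_or_ne c 0 with hc0 | hc0
  · have hN1 : N c = 1 := by
      refine le_antisymm hNc (Finset.card_pos.2 ⟨0, ?_⟩)
      simp [hf0, hc0]
    have hlt := hc.resolve_left (not_not.2 hc0)
    rw [hk, hl] at hlt
    rw [hN1] at key hsum
    have hP : P = l := by omega
    rw [hP] at hcs
    have e1 : (k + 1) * R = (k + 1) * l + l * (l + 1) := by linear_combination key
    have e2 : l * l ≤ k * (k + 2) * l := by
      have := Nat.mul_le_mul_left (k + 1) hcs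
      rw [← mul_assoc (k + 1) k R, mul_comm (k + 1) k, mul_assoc k (k + 1) R, e1, sq] at this
      linarith [show k * ((k + 1) * l + l * (l + 1)) = k * (k + 2) * l + k * (l * l) by ring,
        show (k + 1) * (l * l) = k * (l * l) + l * l by ring]
    have e3 := Nat.le_of_mul_le_mul_right e2 (by nlinarith)
    nlinarith
  · have hN0 : N c = 0 := by
      refine Finset.card_eq_zero.2 (Finset.filter_eq_empty_iff.2 fun x _ hx => ?_)
      rcases eq_or_ne x 0 with h | h
      · exact hc0 (by rw [← hx, h, hf0])
      · exact hno x h hx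
    rw [hk, hl] at hm
    rw [hN0] at key hsum
    have hP : P = l + 1 := by omega
    rw [hP] at hcs
    have e1 : (k + 1) * R = (k + 1) * (l + 1) + l * (l + 1) := by linear_combination key
    have e2 : (k + 1) * (l + 1) * (l + 1) ≤ k * (k + 1 + l) * (l + 1) := by
      have := Nat.mul_le_mul_left (k + 1) hcs
      rw [← mul_assoc (k + 1) k R, mul_comm (k + 1) k, mul_assoc k (k + 1) R, e1, sq, ← mul_assoc] at this
      linarith [show k * ((k + 1) * (l + 1) + l * (l + 1)) = k * (k + 1 + l) * (l + 1) by ring]
    have e3 := Nat.le_of_mul_le_mul_right e2 (by omega)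
    nlinarith

end CfsgLib.Geo.SympTwoOver
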