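/-
Siegel elements `u ↦ u + B(u,a) w + (B(u,w) + c B(u,a)) a` of the symplectic group in characteristic two.
-/
import Cfsg.Agent.Lib.Classical.Symplectic.Basic

set_option autoImplicit false

namespace CfsgLib.Geo.SympTwoOver

open LinearMap (BilinForm)
open CfsgLib.Classical.Symp

variable {F : Type*} [Field F] [CharP F 2] {V : Type*} [AddCommGroup V] [Module F V] {B : BilinForm F V}

theorem comm' (hA : B.IsAlt) (u v : V) : B u v = B v u := by
  rw [swap hA v u, CharTwo.neg_eq]

theorem add_self' (F : Type*) [Field F] [CharP F 2] {V : Type*} [AddCommGroup V] [Module F V] (u : V) :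
    u + u = 0 := by rw [← two_smul F u, CharTwo.two_eq_zero, zero_smul]

/-- The linear map underlying a Siegel element. -/
def sgMap (B : BilinForm F V) (a w : V) (c : F) : V →ₗ[F] V :=
  LinearMap.id + (B.flip a).smulRight w + ((B.flip w) + c • (B.flip a)).smulRight a

omit [CharP F 2] in
theorem sgMap_apply (a w : V) (c : F) (u : V) :
    sgMap B a w c u = u + B u a • w + (B u w + c * B u a) • a := by
  simp [sgMap]

theorem sgMap_sgMap (hA : B.IsAlt) {a w w' : V} (h : B w a = 0) (h' : B w' a = 0) (c c' : F) (u : V) :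
    sgMap B a w c (sgMap B a w' c' u) = sgMap B a (w + w') (c + c' + B w' w) u := by
  simp only [sgMap_apply, map_add, LinearMap.add_apply, LinearMap.map_smul, LinearMap.smul_apply, smul_eq_mul,
    hA a, h', comm' hA a w, h]
  match_scalars <;> ring

theorem sgMap_zero (a u : V) : sgMap B a 0 0 u = u := by simp [sgMap_apply]

theorem sgMap_invol (hA : B.IsAlt) {a w : V} (h : B w a = 0) (c : F) (u : V) :
    sgMap B a w c (sgMap B a w c u) = u := by
  rw [sgMap_sgMap hA h h, hA w, add_self' F, CharTwo.add_self_eq_zero, add_zero, sgMap_zero]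

/-- The Siegel element (the identity unless `B w a = 0`). -/
noncomputable def sg (hA : B.IsAlt) (a w : V) (c : F) : V ≃ₗ[F] V := by
  classical
  exact if h : B w a = 0 then LinearEquiv.ofLinear (sgMap B a w c) (sgMap B a w c)
    (LinearMap.ext (sgMap_invol hA h c)) (LinearMap.ext (sgMap_invol hA h c))
  else 1

variable (hA : B.IsAlt)

theorem sg_apply {a w : V} (h : B w a = 0) (c : F) (u : V) :
    sg hA a w c u = u + B u a • w + (B u w + c * B u a) • a := by
  rw [sg, dif_pos h]
  exact sgMap_apply a w c u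

theorem sg_mul {a w w' : V} (h : B w a = 0) (h' : B w' a = 0) (c c' : F) :
    sg hA a w c * sg hA a w' c' = sg hA a (w + w') (c + c' + B w' w) := by
  have h'' : B (w + w') a = 0 := by rw [map_add, LinearMap.add_apply, h, h', add_zero]
  refine LinearEquiv.ext fun u => ?_
  rw [LinearEquiv.mul_apply, sg, sg, sg, dif_pos h, dif_pos h', dif_pos h'']
  exact sgMap_sgMap hA h h' c c' u

theorem sg_zero (a : V) : sg hA a 0 0 = 1 := by
  refine LinearEquiv.ext fun u => ?_
  simp [sg_apply]

theorem sg_inv {a w : V} (h : B w a = 0) (c : F) : (sg hA a w c)⁻¹ = sg hA a w c := by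
  refine inv_eq_of_mul_eq_one_right ?_
  rw [sg_mul hA h h, hA w, add_self' F, CharTwo.add_self_eq_zero, add_zero, sg_zero]

/-- Only the class of `w` modulo the centre matters. -/
theorem sg_add_smul {a w : V} (h : B w a = 0) (t c : F) : sg hA a (w + t • a) c = sg hA a w c := by
  refine LinearEquiv.ext fun u => ?_
  rw [sg_apply hA (by simp [h, hA a]) c u, sg_apply hA h c u, map_add, LinearMap.map_smul, smul_eq_mul]
  match_scalars <;> linear_combination (norm := ring_nf) (0 : F)
  all_goals simp [CharTwo.two_eq_zero]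

theorem sg_smul_centre {a w : V} (h : B w a = 0) (σ c : F) :
    sg hA (σ • a) w c = sg hA a (σ • w) (σ ^ 2 * c) := by
  refine LinearEquiv.ext fun u => ?_
  rw [sg_apply hA (by simp [h]) c u, sg_apply hA (by simp [h]) _ u]
  simp only [LinearMap.map_smul, smul_eq_mul]
  match_scalars <;> ring

theorem sg_conj {g : V ≃ₗ[F] V} (hg : g ∈ Sp B) {a w : V} (h : B w a = 0) (c : F) :
    g * sg hA a w c * g⁻¹ = sg hA (g a) (g w) c := by
  refine LinearEquiv.ext fun u => ?_
  obtain ⟨y, rfl⟩ := g.surjective u
  have hg' : ∀ x y, B (g x) (g y) = B x y := hg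
  have h' : B (g w) (g a) = 0 := by rw [hg' w a]; exact h
  simp only [LinearEquiv.mul_apply, LinearEquiv.coe_inv, LinearEquiv.symm_apply_apply, sg_apply hA h,
    sg_apply hA h', map_add, LinearEquiv.map_smul, hg' y a, hg' y w]

theorem sg_mem_Sp {a w : V} (h : B w a = 0) (c : F) : sg hA a w c ∈ Sp B := by
  intro x y
  show B (sg hA a w c x) (sg hA a w c y) = B x y
  simp only [sg_apply hA h, map_add, LinearMap.add_apply, LinearMap.map_smul, LinearMap.smul_apply, smul_eq_mul,
    hA a, hA w, h, comm' hA a w, comm' hA a y, comm' hA w y]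
  linear_combination (B x a * B y w + B x w * B y a + c * (B x a * B y a)) * CharTwo.two_eq_zero (R := F)

theorem tr_eq_sg (v : V) (c : F) : (tr hA v c : V ≃ₗ[F] V) = sg hA v 0 c := by
  refine LinearEquiv.ext fun u => ?_
  simp [tr_apply, sg_apply]

end CfsgLib.Geo.SympTwoOver
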