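/-
Centres of full Siegel groups of a subgroup, and two such centres spanning a totally isotropic line.
-/
import Cfsg.Agent.Lib.Geo.SympTwoOver.Elements

set_option autoImplicit false

namespace CfsgLib.Geo.SympTwoOver

open LinearMap (BilinForm)
open CfsgLib.Classical.Symp

variable {F : Type*} [Field F] [CharP F 2] {V : Type*} [AddCommGroup V] [Module F V] {B : BilinForm F V}
  {L : Subgroup (V ≃ₗ[F] V)} (hA : B.IsAlt)

/-- `L` has, for every `w ⊥ a`, some Siegel element at `a` with vector `w`. -/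
def Full (L : Subgroup (V ≃ₗ[F] V)) (a : V) : Prop := ∀ w, B w a = 0 → ∃ c, sg hA a w c ∈ L

/-- `L` has no transvection with centre `a`. -/
def SFree (L : Subgroup (V ≃ₗ[F] V)) (a : V) : Prop := ∀ c, sg hA a 0 c ∈ L → c = 0

theorem sg_congr_vec {a w w' : V} (hw : w = w') (c : F) : sg hA a w c = sg hA a w' c := by rw [hw]

theorem exists_smul_vec {a w : V} (h : B w a = 0) {σ : F} (hσ : σ ≠ 0) :
    ∃ w', B w' a = 0 ∧ σ • w' = w := ⟨σ⁻¹ • w, by simp [h], smul_inv_smul₀ hσ w⟩

variable {hA}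

theorem Full.map (hL : L ≤ Sp B) {g : V ≃ₗ[F] V} (hg : g ∈ L) {a : V} (h : Full hA L a) : Full hA L (g a) := by
  intro w hw
  have hg' : ∀ x y, B (g x) (g y) = B x y := hL hg
  have hw' : B (g.symm w) a = 0 := by rw [← hg', LinearEquiv.apply_symm_apply]; exact hw
  obtain ⟨c, hc⟩ := h (g.symm w) hw'
  refine ⟨c, ?_⟩
  have h2 := L.mul_mem (L.mul_mem hg hc) (L.inv_mem hg)
  rwa [sg_conj hA (hL hg) hw', LinearEquiv.apply_symm_apply] at h2

theorem sg_zero_map (hL : L ≤ Sp B) {g : V ≃ₗ[F] V} (hg : g ∈ L) {a : V} {c : F} :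
    sg hA (g a) 0 c ∈ L ↔ sg hA a 0 c ∈ L := by
  have e := sg_conj hA (hL hg) (a := a) (w := 0) (by simp) c
  rw [map_zero] at e
  rw [← e]
  constructor
  · intro h
    have := L.mul_mem (L.mul_mem (L.inv_mem hg) h) hg
    rwa [mul_assoc, inv_mul_cancel_right, inv_mul_cancel_left] at this
  · exact fun h => L.mul_mem (L.mul_mem hg h) (L.inv_mem hg)

theorem SFree.map (hL : L ≤ Sp B) {g : V ≃ₗ[F] V} (hg : g ∈ L) {a : V} (h : SFree hA L a) : SFree hA L (g a) :=
  fun c hc => h c ((sg_zero_map hL hg).1 hc)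

theorem Full.smul {a : V} (h : Full hA L a) {σ : F} (hσ : σ ≠ 0) : Full hA L (σ • a) := by
  intro w hw
  have hw' : B w a = 0 := by simpa [hσ] using hw
  obtain ⟨c, hc⟩ := h (σ • w) (by simp [hw'])
  exact ⟨c / σ ^ 2, by rwa [sg_smul_centre hA hw', mul_div_cancel₀ _ (pow_ne_zero 2 hσ)]⟩

theorem SFree.smul {a : V} (h : SFree hA L a) {σ : F} (hσ : σ ≠ 0) : SFree hA L (σ • a) := by
  intro c hc
  rw [sg_smul_centre hA (by simp), smul_zero] at hc
  exact (mul_eq_zero.1 (h _ hc)).resolve_left (pow_ne_zero 2 hσ)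

theorem SFree.unique {a w : V} (h : SFree hA L a) (hw : B w a = 0) {c c' : F} (hc : sg hA a w c ∈ L)
    (hc' : sg hA a w c' ∈ L) : c = c' := by
  have := L.mul_mem hc hc'
  rw [sg_mul hA hw hw, hA w, add_self' F, add_zero] at this
  exact CharTwo.add_eq_zero.1 (h _ this)

variable [FiniteDimensional F V]

theorem exists_polar_eq (hB : B.Nondegenerate) (f : V →ₗ[F] F) : ∃ u, ∀ v, B u v = f v :=
  ⟨(B.toDual hB).symm f, fun v => by
    conv_rhs => rw [← LinearEquiv.apply_symm_apply (B.toDual hB) f]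
    rfl⟩

/-- Two values for a vector outside a line. -/
theorem exists_two_values (hB : B.Nondegenerate) {a w : V} (ha : a ≠ 0) (hw : w ∉ Submodule.span F {a})
    (x y : F) : ∃ u, B u a = x ∧ B u w = y := by
  obtain ⟨f, hfw, hfa⟩ := Submodule.exists_dual_map_eq_bot_of_notMem hw inferInstance
  obtain ⟨g, hg⟩ := Submodule.exists_dual_map_eq_bot_of_notMem (show a ∉ (⊥ : Submodule F V) by simpa using ha)
    inferInstance
  have hfa' : f a = 0 := by
    have : f a ∈ (Submodule.span F {a}).map f := ⟨a, Submodule.mem_span_singleton_self a, rfl⟩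
    rwa [hfa, Submodule.mem_bot] at this
  set k : V →ₗ[F] F := (x / g a) • g
  obtain ⟨u, hu⟩ := exists_polar_eq hB (k + ((y - k w) / f w) • f)
  refine ⟨u, ?_, ?_⟩
  · rw [hu]
    simp [k, hfa', div_mul_cancel₀ x hg.1]
  · rw [hu]
    simp [div_mul_cancel₀ _ hfw]

/-- Two centres on an isotropic line: the product of two conjugate elements. -/
theorem line_key (hB : B.Nondegenerate) {a w : V} (ha : a ≠ 0)
    (hw : w ∉ Submodule.span F {a}) (hwa : B w a = 0) (hFa : Full hA L a) {r C : F}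
    (hy : sg hA w (r • a) C ∈ L) (t : F) : sg hA a ((t * C) • w) (t ^ 2 * C) ∈ L := by
  obtain ⟨u, hua, huw⟩ := exists_two_values hB ha hw 0 t
  obtain ⟨c, hc⟩ := hFa u hua
  have haw : B a w = 0 := by rw [comm' hA]; exact hwa
  have hra : B (r • a) w = 0 := by simp [haw]
  have h2 := L.mul_mem hy (L.mul_mem (L.mul_mem hc hy) (L.inv_mem hc))
  convert h2 using 1
  rw [sg_conj hA (sg_mem_Sp hA hua c) hra]
  have e1 : sg hA a u c (r • a) = r • a := by
    rw [sg_apply hA hua]
    simp [hA a, comm' hA a u, hua]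
  have e2 : sg hA a u c w = w + t • a := by
    rw [sg_apply hA hua, hwa, comm' hA w u, huw]
    simp
  rw [e1, e2]
  refine LinearEquiv.ext fun z => ?_
  have h1 : B ((t * C) • w) a = 0 := by simp [hwa]
  have h3 : B (r • a) (w + t • a) = 0 := by simp [haw, hA a]
  rw [LinearEquiv.mul_apply, sg_apply hA h1, sg_apply hA hra, sg_apply hA h3]
  simp only [map_add, LinearMap.add_apply, LinearMap.map_smul, LinearMap.smul_apply, smul_eq_mul, hA a, hA w,
    haw, hwa]
  match_scalars <;> ring_nf <;> simp [CharTwo.two_eq_zero]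

end CfsgLib.Geo.SympTwoOver
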