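/-
The common perpendicular of a hyperbolic pair and the values of constants of Siegel elements on it.
-/
import Cfsg.Agent.Lib.Geo.SympTwoOver.Points
import Cfsg.Agent.Lib.Geo.SympTwoOver.Count

set_option autoImplicit false

namespace CfsgLib.Geo.SympTwoOver

open LinearMap (BilinForm)
open CfsgLib.Classical.Symp

variable {F : Type*} [Field F] [CharP F 2] {V : Type*} [AddCommGroup V] [Module F V] {B : BilinForm F V}
  {L : Subgroup (V ≃ₗ[F] V)} {hA : B.IsAlt}

/-- The vectors perpendicular to `a` and `b`. -/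
def perp₂ (B : BilinForm F V) (a b : V) : Submodule F V := LinearMap.ker (B.flip a) ⊓ LinearMap.ker (B.flip b)

omit [CharP F 2] in
theorem mem_perp₂ {a b w : V} : w ∈ perp₂ B a b ↔ B w a = 0 ∧ B w b = 0 := Iff.rfl

/-- The projection to the perpendicular of a hyperbolic pair. -/
def proj (B : BilinForm F V) (a b : V) : V →ₗ[F] V :=
  LinearMap.id + (B.flip b).smulRight a + (B.flip a).smulRight b

omit [CharP F 2] in
theorem proj_apply (a b u : V) : proj B a b u = u + B u b • a + B u a • b := by simp [proj]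

theorem proj_mem (hA : B.IsAlt) {a b : V} (hab : B a b = 1) (u : V) : proj B a b u ∈ perp₂ B a b := by
  have hba : B b a = 1 := by rw [comm' hA]; exact hab
  constructor <;>
    simp [proj_apply, hA a, hA b, hab, hba, CharTwo.add_self_eq_zero]

theorem proj_pair (hA : B.IsAlt) {a b : V} (u : V) {w : V} (hw : w ∈ perp₂ B a b) :
    B (proj B a b u) w = B u w := by
  rw [mem_perp₂] at hw
  simp [proj_apply, comm' hA a w, comm' hA b w, hw.1, hw.2]

theorem decompose (hA : B.IsAlt) (a b u : V) : proj B a b u + B u b • a + B u a • b = u := by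
  rw [proj_apply]
  match_scalars <;> simp [CharTwo.two_eq_zero, CharTwo.add_self_eq_zero]

theorem exists_mem_perp (hA : B.IsAlt) [FiniteDimensional F V] (hB : B.Nondegenerate) {a b : V} (hab : B a b = 1)
    {h : V} (hh : h ∈ perp₂ B a b) (h0 : h ≠ 0) (c : F) : ∃ x ∈ perp₂ B a b, B x h = c := by
  obtain ⟨f, hf⟩ := Submodule.exists_dual_map_eq_bot_of_notMem (show h ∉ (⊥ : Submodule F V) by simpa using h0)
    inferInstance
  obtain ⟨u, hu⟩ := exists_polar_eq hB ((c / f h) • f)
  refine ⟨proj B a b u, proj_mem hA hab u, ?_⟩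
  rw [proj_pair hA u hh, hu, LinearMap.smul_apply, smul_eq_mul, div_mul_cancel₀ c hf.1]

theorem finrank_perp₂ [FiniteDimensional F V] (a b : V) :
    Module.finrank F V ≤ Module.finrank F (perp₂ B a b) + 2 := by
  have e : perp₂ B a b = LinearMap.ker ((B.flip a).prod (B.flip b)) := (LinearMap.ker_prod _ _).symm
  rw [e]
  have h1 := LinearMap.finrank_range_add_finrank_ker ((B.flip a).prod (B.flip b))
  have h2 := Submodule.finrank_le (LinearMap.range ((B.flip a).prod (B.flip b)))
  rw [Module.finrank_prod, Module.finrank_self] at h2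
  omega

/-- The constants in a coset of the group of constants of transvections reach every value at a non-zero vector. -/
theorem exists_vector [Fintype F] [FiniteDimensional F V] (hB : B.Nondegenerate) (h4 : 4 ≤ Module.finrank F V)
    {a b : V} (hab : B a b = 1) (hFa : Full hA L a) (e : F)
    (he : e ≠ 0 ∨ ∃ c, c ≠ 0 ∧ sg hA a 0 c ∈ L) : ∃ w ∈ perp₂ B a b, w ≠ 0 ∧ sg hA a w e ∈ L := by
  classical
  by_cases hS0 : e ≠ 0 ∧ ∀ c, sg hA a 0 c ∈ L → c = 0
  · haveI : Finite V := Module.finite_of_finite F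
    haveI : Fintype (perp₂ B a b) := Fintype.ofFinite _
    have hc : ∀ w : perp₂ B a b, ∃ c, sg hA a (w : V) c ∈ L := fun w => hFa _ w.2.1
    choose f hf using hc
    obtain ⟨w, hw0, hw⟩ := exists_value (f := f) (β := fun x h : perp₂ B a b => B (x : V) h)
      (fun x y h => by simp) (fun x => by simp) (fun x h => by
        refine SFree.unique hS0.2 (x + h).2.1 (hf _) ?_
        have := L.mul_mem (hf h) (hf x)
        rw [sg_mul hA h.2.1 x.2.1] at this
        rwa [add_comm (h : V), ← Submodule.coe_add, add_comm (f h)] at this)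
      (fun h h0 c => by
        obtain ⟨x, hx, hxc⟩ := exists_mem_perp hA hB hab h.2 (fun e => h0 (Subtype.ext e)) c
        exact ⟨⟨x, hx⟩, hxc⟩)
      e (Fintype.one_lt_card (α := F)) (by
        rw [Module.card_eq_pow_finrank (K := F) (V := perp₂ B a b)]
        have h2 : 2 ≤ Module.finrank F (perp₂ B a b) := by have := finrank_perp₂ (B := B) a b; omega
        exact Nat.pow_le_pow_right (Fintype.card_pos (α := F)) h2)
      (Or.inl hS0.1)
    exact ⟨w, w.2, fun e => hw0 (Subtype.ext e), hw ▸ hf w⟩
  -- the quotient by the constants of transvections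
  let S : AddSubgroup F :=
    { carrier := {c | sg hA a 0 c ∈ L}
      zero_mem' := by
        show sg hA a 0 0 ∈ L
        rw [sg_zero]
        exact L.one_mem
      add_mem' := fun {c c'} hc hc' => by
        have := L.mul_mem (show sg hA a 0 c ∈ L from hc) (show sg hA a 0 c' ∈ L from hc')
        rw [sg_mul hA (by simp) (by simp)] at this
        simpa using this
      neg_mem' := fun {c} hc => by rwa [CharTwo.neg_eq] }
  obtain ⟨c₀, hc₀, hc₀L⟩ : ∃ c, c ≠ 0 ∧ c ∈ S := by
    rcases he with he | he
    · push Not at hS0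
      obtain ⟨c, hc, hc0⟩ := hS0 he
      exact ⟨c, hc0, hc⟩
    · exact he
  have hcard : Nat.card (F ⧸ S) < Fintype.card F := by
    rw [← Nat.card_eq_fintype_card, AddSubgroup.card_eq_card_quotient_mul_card_addSubgroup S]
    refine lt_mul_of_one_lt_right Nat.card_pos ?_
    rw [Finite.one_lt_card_iff_nontrivial]
    exact ⟨⟨⟨c₀, hc₀L⟩, 0, fun h => hc₀ (congrArg Subtype.val h)⟩⟩
  haveI : Finite V := Module.finite_of_finite F
  haveI : Fintype (perp₂ B a b) := Fintype.ofFinite _
  haveI : Fintype (F ⧸ S) := Fintype.ofFinite _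
  have hlt : Fintype.card (F ⧸ S) ^ 2 < Fintype.card (perp₂ B a b) := by
    rw [Module.card_eq_pow_finrank (K := F) (V := perp₂ B a b)]
    have h2 : 2 ≤ Module.finrank F (perp₂ B a b) := by have := finrank_perp₂ (B := B) a b; omega
    refine lt_of_lt_of_le ?_ (Nat.pow_le_pow_right Fintype.card_pos h2)
    exact Nat.pow_lt_pow_left (by rwa [← Nat.card_eq_fintype_card]) two_ne_zero
  have hc : ∀ w : perp₂ B a b, ∃ c, sg hA a (w : V) c ∈ L := fun w => hFa _ w.2.1
  choose f hf using hc
  have hsame : ∀ {w : V} {c c' : F}, B w a = 0 → sg hA a w c ∈ L → sg hA a w c' ∈ L → c + c' ∈ S := by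
    intro w c c' hw h1 h2
    have := L.mul_mem h1 h2
    rw [sg_mul hA hw hw, hA w, add_self' F, add_zero] at this
    exact this
  by_cases htriv : Fintype.card (F ⧸ S) < 2
  · -- every value is in the same coset
    haveI : Subsingleton (F ⧸ S) := Fintype.card_le_one_iff_subsingleton.1 (by omega)
    haveI : Nontrivial (perp₂ B a b) := Fintype.one_lt_card_iff_nontrivial.1
      (lt_of_le_of_lt (Nat.one_le_pow _ _ Fintype.card_pos) hlt)
    obtain ⟨w, hw⟩ := exists_ne (0 : perp₂ B a b)
    refine ⟨w, w.2, fun e' => hw (Subtype.ext e'), ?_⟩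
    have hd : f w + e ∈ S := (QuotientAddGroup.eq_zero_iff _).1 (Subsingleton.elim _ _)
    have := L.mul_mem (hf w) hd
    rw [sg_mul hA w.2.1 (by simp), add_zero, map_zero, LinearMap.zero_apply, add_zero, ← add_assoc,
      CharTwo.add_self_eq_zero, zero_add] at this
    exact this
  obtain ⟨w, hw0, hw⟩ := exists_value (f := fun w => (QuotientAddGroup.mk (f w) : F ⧸ S))
    (β := fun x h : perp₂ B a b => (QuotientAddGroup.mk (B (x : V) h) : F ⧸ S))
    (fun x y h => by simp) (fun x => by simp) (fun x h => by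
      show (QuotientAddGroup.mk _ : F ⧸ S) = _
      rw [← QuotientAddGroup.mk_add, ← QuotientAddGroup.mk_add, QuotientAddGroup.eq, CharTwo.neg_eq]
      refine hsame (x + h).2.1 (hf _) ?_
      have := L.mul_mem (hf h) (hf x)
      rw [sg_mul hA h.2.1 x.2.1] at this
      rwa [add_comm (h : V), ← Submodule.coe_add, add_comm (f h)] at this)
    (fun h h0 cs => by
      obtain ⟨c, rfl⟩ := QuotientAddGroup.mk_surjective cs
      obtain ⟨x, hx, hxc⟩ := exists_mem_perp hA hB hab h.2 (fun e => h0 (Subtype.ext e)) c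
      exact ⟨⟨x, hx⟩, congrArg QuotientAddGroup.mk hxc⟩)
    (QuotientAddGroup.mk e) (by omega) hlt.le (Or.inr hlt)
  refine ⟨w, w.2, fun e' => hw0 (Subtype.ext e'), ?_⟩
  have hd : f w + e ∈ S := by
    have := QuotientAddGroup.eq.1 hw
    rwa [CharTwo.neg_eq] at this
  have := L.mul_mem (hf w) hd
  rw [sg_mul hA w.2.1 (by simp), add_zero, map_zero, LinearMap.zero_apply, add_zero, ← add_assoc,
    CharTwo.add_self_eq_zero, zero_add] at this
  exact this

end CfsgLib.Geo.SympTwoOver
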