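/-
Two-groups normal in the stabiliser of a vector consist of Siegel elements at that vector.
-/
import Cfsg.Agent.Lib.Geo.SympTwoOver.Perp

set_option autoImplicit false

namespace CfsgLib.Geo.SympTwoOver

open LinearMap (BilinForm)
open CfsgLib.Classical.Symp

variable {F : Type*} [Field F] [CharP F 2] [Fintype F] {V : Type*} [AddCommGroup V] [Module F V]
  [FiniteDimensional F V] {B : BilinForm F V} (hA : B.IsAlt)

omit [CharP F 2] [Fintype F] [FiniteDimensional F V] in
/-- The quotient of the perpendicular of `a` by its line. -/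
abbrev perpLine (B : BilinForm F V) (a : V) : Type _ :=
  (LinearMap.ker (B.flip a)) ⧸ (Submodule.span F {a}).comap (LinearMap.ker (B.flip a)).subtype

theorem finrank_perpLine (hB : B.Nondegenerate) (hA : B.IsAlt) {a : V} (ha : a ≠ 0) :
    Module.finrank F (perpLine B a) + 2 = Module.finrank F V := by
  have hne : B.flip a ≠ 0 := fun e => ha (hB.1 a fun v => by
    rw [comm' hA]
    exact LinearMap.congr_fun e v)
  have h1 := Module.Dual.finrank_ker_add_one_of_ne_zero hne
  have h2 := Submodule.finrank_quotient_add_finrank ((Submodule.span F {a}).comap (LinearMap.ker (B.flip a)).subtype)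
  have h3 : Module.finrank F ((Submodule.span F {a}).comap (LinearMap.ker (B.flip a)).subtype) = 1 := by
    have hle : Submodule.span F {a} ≤ LinearMap.ker (B.flip a) := by
      rw [Submodule.span_le, Set.singleton_subset_iff]
      exact hA a
    rw [(Submodule.comapSubtypeEquivOfLe hle).finrank_eq, finrank_span_singleton ha]
  show Module.finrank F (_ ⧸ _) + 2 = _
  omega

theorem exists_sg_of_twoGroup (hB : B.Nondegenerate) (h4 : 4 ≤ Module.finrank F V) {a : V} (ha : a ≠ 0)
    {P : Subgroup (V ≃ₗ[F] V)} (hP : IsPGroup 2 P) (hPSp : P ≤ Sp B) (hPa : ∀ x ∈ P, x a = a)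
    (hn : ∀ (v : V) (c : F), B v a = 0 → ∀ x ∈ P, sg hA v 0 c * x * sg hA v 0 c ∈ P)
    {x : V ≃ₗ[F] V} (hx : x ∈ P) : ∃ w c, B w a = 0 ∧ x = sg hA a w c := by
  classical
  haveI : Finite V := Module.finite_of_finite F
  haveI : Finite (perpLine B a) := Finite.of_surjective _ (Submodule.Quotient.mk_surjective _)
  have hPB : ∀ y ∈ P, ∀ u v, B (y u) (y v) = B u v := fun y hy => hPSp hy
  have hperp : ∀ (y : P) (u : LinearMap.ker (B.flip a)),
      ((y : V ≃ₗ[F] V) : V →ₗ[F] V) u ∈ LinearMap.ker (B.flip a) := fun y u => by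
    have h := hPB _ y.2 u a
    rw [hPa _ y.2] at h
    exact h.trans u.2
  set N := (Submodule.span F {a}).comap (LinearMap.ker (B.flip a)).subtype
  let act : P → LinearMap.ker (B.flip a) →ₗ[F] LinearMap.ker (B.flip a) := fun y =>
    (((y : V ≃ₗ[F] V) : V →ₗ[F] V).comp (LinearMap.ker (B.flip a)).subtype).codRestrict _ (hperp y)
  have hN : ∀ y, N ≤ N.comap (act y) := by
    intro y u hu
    obtain ⟨k, hk⟩ := Submodule.mem_span_singleton.1 (show (u : V) ∈ Submodule.span F {a} from hu)
    refine Submodule.mem_span_singleton.2 ⟨k, ?_⟩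
    show k • a = (y : V ≃ₗ[F] V) u
    rw [← hk, LinearEquiv.map_smul, hPa _ y.2]
  letI : MulAction P (perpLine B a) :=
    { smul := fun y s => Submodule.mapQ N N (act y) (hN y) s
      one_smul := fun s => by
        obtain ⟨u, rfl⟩ := Submodule.Quotient.mk_surjective N s
        show Submodule.Quotient.mk (act 1 u) = _
        rfl
      mul_smul := fun y z s => by
        obtain ⟨u, rfl⟩ := Submodule.Quotient.mk_surjective N s
        rfl }
  have hcard : 2 ∣ Nat.card (perpLine B a) := by
    haveI : Fintype (perpLine B a) := Fintype.ofFinite _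
    have h2 : 2 ∣ Fintype.card F := (CharP.cast_eq_zero_iff F 2 _).1 (FiniteField.cast_card_eq_zero F)
    rw [Nat.card_eq_fintype_card, Module.card_eq_pow_finrank (K := F) (V := perpLine B a)]
    exact h2.trans (dvd_pow_self _ (by have := finrank_perpLine hB hA ha; omega))
  haveI : Fact (Nat.Prime 2) := ⟨Nat.prime_two⟩
  obtain ⟨s, hs, hs0⟩ := hP.exists_fixed_point_of_prime_dvd_card_of_fixed_point (perpLine B a) hcard
    (a := (0 : perpLine B a)) (fun y => map_zero (Submodule.mapQ N N (act y) (hN y)))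
  obtain ⟨m, rfl⟩ := Submodule.Quotient.mk_surjective N s
  -- vectors fixed modulo the line
  let M : Submodule F V :=
    { carrier := {u | B u a = 0 ∧ ∀ y ∈ P, ∃ k : F, y u = u + k • a}
      zero_mem' := ⟨by simp, fun y _ => ⟨0, by simp⟩⟩
      add_mem' := fun {u v} hu hv => ⟨by simp [hu.1, hv.1], fun y hy => by
        obtain ⟨k, hk⟩ := hu.2 y hy
        obtain ⟨l, hl⟩ := hv.2 y hy
        exact ⟨k + l, by rw [map_add, hk, hl, add_smul]; abel⟩⟩
      smul_mem' := fun c u hu => ⟨by simp [hu.1], fun y hy => by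
        obtain ⟨k, hk⟩ := hu.2 y hy
        exact ⟨c * k, by rw [LinearEquiv.map_smul, hk, smul_add, smul_smul]⟩⟩ }
  have hm : (m : V) ∈ M := ⟨m.2, fun y hy => by
    have h : Submodule.Quotient.mk (act ⟨y, hy⟩ m) = (Submodule.Quotient.mk m : perpLine B a) := hs ⟨y, hy⟩
    rw [Submodule.Quotient.eq] at h
    obtain ⟨k, hk⟩ := Submodule.mem_span_singleton.1
      (show ((act ⟨y, hy⟩ m - m : LinearMap.ker (B.flip a)) : V) ∈ Submodule.span F {a} from h)
    exact ⟨k, by
      rw [hk]
      show y (m : V) = (m : V) + (y (m : V) - m)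
      abel⟩⟩
  have hmn : (m : V) ∉ Submodule.span F {a} := fun h => hs0 ((Submodule.Quotient.mk_eq_zero N).2 h).symm
  have hmove : ∀ v, B v a = 0 → ∀ u ∈ M, B u v ≠ 0 → v ∈ M := by
    intro v hv u hu huv
    have hv0 : B (0 : V) v = 0 := by simp
    have hinv : sg hA v 0 1 * sg hA v 0 1 = 1 := by
      rw [sg_mul hA hv0 hv0]
      simp [CharTwo.add_self_eq_zero, sg_zero]
    have ta : sg hA v 0 1 a = a := by
      rw [sg_apply hA hv0, comm' hA a v, hv]
      simp
    have hu' : sg hA v 0 1 u ∈ M := by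
      refine ⟨?_, fun y hy => ?_⟩
      · have h := sg_mem_Sp hA hv0 1 u a
        change B (sg hA v 0 1 u) (sg hA v 0 1 a) = B u a at h
        rw [ta] at h
        exact h.trans hu.1
      · obtain ⟨k, hk⟩ := hu.2 _ (hn v 1 hv y hy)
        refine ⟨k, ?_⟩
        have h := congrArg (sg hA v 0 1) hk
        rw [← LinearEquiv.mul_apply, ← mul_assoc, ← mul_assoc, hinv, one_mul, LinearEquiv.mul_apply, map_add,
          LinearEquiv.map_smul, ta] at h
        exact h
    have h := sub_mem hu' hu
    rw [sg_apply hA hv0, LinearMap.map_zero, zero_add, one_mul, smul_zero, add_zero, add_sub_cancel_left] at h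
    exact (Submodule.smul_mem_iff _ huv).1 h
  have hall : ∀ v, B v a = 0 → v ∈ M := by
    intro v hv
    by_cases h : B (m : V) v = 0
    swap
    · exact hmove v hv _ hm h
    obtain ⟨v₀, h0a, h0m⟩ := exists_two_values hB ha hmn 0 1
    have h1 : B (m : V) v₀ = 1 := by rw [comm' hA]; exact h0m
    have e1 := hmove v₀ h0a _ hm (by rw [h1]; exact one_ne_zero)
    have e2 := hmove (v₀ + v) (by simp [h0a, hv]) _ hm (by rw [map_add, h1, h, add_zero]; exact one_ne_zero)
    simpa using sub_mem e2 e1
  obtain ⟨b, hb, -⟩ := exists_two_values hB ha hmn 1 0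
  set w := x b + b with hw
  have hxb : B (x b) a = 1 := by
    conv_lhs => rw [← hPa x hx]
    rw [hPB x hx]
    exact hb
  have hwa : B w a = 0 := by rw [hw, map_add, LinearMap.add_apply, hxb, hb, CharTwo.add_self_eq_zero]
  refine ⟨w, B b w, hwa, LinearEquiv.ext fun u => ?_⟩
  have key : ∀ u, B u a = 0 → x u = sg hA a w (B b w) u := fun u hu => by
    obtain ⟨k, hk⟩ := (hall u hu).2 x hx
    have h := hPB x hx u b
    rw [hk, map_add, LinearMap.add_apply, LinearMap.map_smul, LinearMap.smul_apply, smul_eq_mul, comm' hA a,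
      hxb, mul_one] at h
    rw [hk, sg_apply hA hwa, hu, mul_zero, add_zero, zero_smul, add_zero]
    congr 2
    rw [hw, map_add]
    linear_combination h + (-B u (x b)) * CharTwo.two_eq_zero (R := F)
  have kb : x b = sg hA a w (B b w) b := by
    rw [sg_apply hA hwa, hb, one_smul, mul_one, CharTwo.add_self_eq_zero, zero_smul, add_zero, hw, add_left_comm,
      add_self' F, add_zero]
  have e : u = (u + B u a • b) + B u a • b := by rw [add_assoc, add_self' F, add_zero]
  have hp : B (u + B u a • b) a = 0 := by simp [hb, CharTwo.add_self_eq_zero]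
  have h1 : x (u + B u a • b + B u a • b) = sg hA a w (B b w) (u + B u a • b + B u a • b) := by
    rw [map_add, map_add (sg hA a w (B b w)) (u + B u a • b), key _ hp, LinearEquiv.map_smul, LinearEquiv.map_smul, kb]
  rwa [← e] at h1

/-- A set of that many Siegel elements without transvections is a full Siegel group. -/
theorem full_of_card (hB : B.Nondegenerate) {a : V} (ha : a ≠ 0) {X L : Subgroup (V ≃ₗ[F] V)} (hXL : X ≤ L)
    (hX : ∀ x ∈ X, ∃ w c, B w a = 0 ∧ x = sg hA a w c)
    (hcard : Fintype.card F ^ (Module.finrank F V - 2) ≤ Nat.card X)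
    (hfree : ∀ c, sg hA a 0 c ∈ X → c = 0) : Full hA L a := by
  classical
  haveI : Finite V := Module.finite_of_finite F
  haveI : Finite (perpLine B a) := Finite.of_surjective _ (Submodule.Quotient.mk_surjective _)
  haveI : Fintype (perpLine B a) := Fintype.ofFinite _
  choose! w c hw hx using hX
  let f : X → perpLine B a := fun x => Submodule.Quotient.mk ⟨w x, hw x x.2⟩
  have hf : Function.Injective f := by
    intro x y e
    rw [Submodule.Quotient.eq] at e
    obtain ⟨k, hk⟩ := Submodule.mem_span_singleton.1 (show w (x : V ≃ₗ[F] V) - w y ∈ Submodule.span F {a} from e)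
    have hwy : w (x : V ≃ₗ[F] V) = w y + k • a := by rw [hk]; abel
    have ex := hx x x.2
    rw [hwy, sg_add_smul hA (hw y y.2)] at ex
    have ey := hx y y.2
    have h := X.mul_mem x.2 y.2
    have hh := hw y y.2
    generalize w (y : V ≃ₗ[F] V) = v at ex ey hh
    generalize c (x : V ≃ₗ[F] V) = cx at ex
    generalize c (y : V ≃ₗ[F] V) = cy at ey
    rw [ex, ey, sg_mul hA hh hh, hA v, add_self' F, add_zero] at h
    apply Subtype.ext
    rw [ex, CharTwo.add_eq_zero.1 (hfree _ h), ← ey]
  have hsur : Function.Surjective f := by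
    refine ((Nat.bijective_iff_injective_and_card f).2 ⟨hf, le_antisymm (Nat.card_le_card_of_injective f hf) ?_⟩).2
    rw [Nat.card_eq_fintype_card (α := perpLine B a), Module.card_eq_pow_finrank (K := F) (V := perpLine B a)]
    refine le_trans ?_ hcard
    rw [← finrank_perpLine hB hA ha, Nat.add_sub_cancel]
  intro v hv
  obtain ⟨x, hxv⟩ := hsur (Submodule.Quotient.mk ⟨v, hv⟩)
  rw [Submodule.Quotient.eq] at hxv
  obtain ⟨k, hk⟩ := Submodule.mem_span_singleton.1 (show w (x : V ≃ₗ[F] V) - v ∈ Submodule.span F {a} from hxv)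
  refine ⟨c x, ?_⟩
  rw [← sg_add_smul hA hv k, show v + k • a = w (x : V ≃ₗ[F] V) by rw [hk]; abel, ← hx x x.2]
  exact hXL x.2

end CfsgLib.Geo.SympTwoOver
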