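/-
Two centres without transvections on an isotropic line: the Siegel elements along the line have constant zero.
-/
import Cfsg.Agent.Lib.Geo.SympTwoOver.Points

set_option autoImplicit false

namespace CfsgLib.Geo.SympTwoOver

open LinearMap (BilinForm)
open CfsgLib.Classical.Symp

variable {F : Type*} [Field F] [CharP F 2] {V : Type*} [AddCommGroup V] [Module F V] [FiniteDimensional F V]
  {B : BilinForm F V} {L : Subgroup (V ≃ₗ[F] V)} {hA : B.IsAlt}

/-- A commutator of Siegel elements at the two centres. -/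
theorem line_comm {a w u v : V} (hFa : Full hA L a) (hFw : Full hA L w) (haw : B w a = 0) (hua : B u a = 0)
    (huw : B u w = 0) (hva : B v a = 0) (hvw : B v w = 0) (huv : B u v = 1) : sg hA w a 0 ∈ L := by
  obtain ⟨cu, hcu⟩ := hFa u hua
  obtain ⟨cv, hcv⟩ := hFw v hvw
  have h := L.mul_mem (L.mul_mem (L.mul_mem hcu hcv) (L.inv_mem hcu)) hcv
  have e1 : sg hA a u cu w = w := by
    rw [sg_apply hA hua, haw, comm' hA w u, huw]
    simp
  have e2 : sg hA a u cu v = v + a := by
    rw [sg_apply hA hua, hva, comm' hA v u, huv]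
    simp
  have hv' : B (v + a) w = 0 := by rw [map_add, LinearMap.add_apply, hvw, comm' hA, haw, add_zero]
  rw [sg_conj hA (sg_mem_Sp hA hua cu) hvw, e1, e2, sg_mul hA hv' hvw, map_add, hA v, hva, add_zero,
    CharTwo.add_self_eq_zero, add_zero, add_comm v a, add_assoc, add_self' F, add_zero] at h
  exact h

theorem line_zero (hB : B.Nondegenerate) {a w : V} (ha : a ≠ 0) (hw : w ∉ Submodule.span F {a})
    (hwa : B w a = 0) (hFa : Full hA L a) (hSa : SFree hA L a) (hFw : Full hA L w) (hSw : SFree hA L w)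
    (hex : (∃ x : F, x ≠ 0 ∧ x ≠ 1) ∨
      ∃ u v, B u a = 0 ∧ B u w = 0 ∧ B v a = 0 ∧ B v w = 0 ∧ B u v = 1) (t : F) :
    sg hA a (t • w) 0 ∈ L := by
  have haw : B a w = 0 := by rw [comm' hA]; exact hwa
  have hw0 : w ≠ 0 := fun e => hw (e ▸ zero_mem _)
  have ha' : a ∉ Submodule.span F {w} := by
    intro h
    obtain ⟨c, rfl⟩ := Submodule.mem_span_singleton.1 h
    have hc : c ≠ 0 := fun e => ha (by rw [e, zero_smul])
    exact hw (Submodule.mem_span_singleton.2 ⟨c⁻¹, inv_smul_smul₀ hc w⟩)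
  by_cases hbig : ∃ x : F, x ≠ 0 ∧ x ≠ 1
  · obtain ⟨x, hx0, hx1⟩ := hbig
    obtain ⟨C, hC⟩ := hFa (t • w) (by simp [hwa])
    by_cases hC0 : C = 0
    · rwa [hC0] at hC
    exfalso
    have h1 : ∀ u : F, sg hA w (u • a) (u ^ 2 / C) ∈ L := fun u => by
      have := line_key hB hw0 ha' haw hFw hC (u / C)
      rwa [div_mul_cancel₀ u hC0, show (u / C) ^ 2 * C = u ^ 2 / C by field_simp] at this
    have h2 : ∀ u : F, u ≠ 0 → sg hA a ((1 : F) • w) (C / u ^ 2) ∈ L := fun u hu => by
      have := line_key hB ha hw hwa hFa (h1 u) (C / u ^ 2)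
      rwa [show C / u ^ 2 * (u ^ 2 / C) = (1 : F) by field_simp,
        show (C / u ^ 2) ^ 2 * (u ^ 2 / C) = C / u ^ 2 by field_simp] at this
    have e := SFree.unique hSa (by simp [hwa]) (h2 1 one_ne_zero) (h2 x hx0)
    rw [one_pow, div_one, eq_div_iff (pow_ne_zero 2 hx0)] at e
    have hx : x ^ 2 = 1 ^ 2 := by
      rw [one_pow]
      exact mul_left_cancel₀ hC0 (by rw [e, mul_one])
    exact hx1 (CharTwo.sq_injective hx)
  · obtain ⟨u, v, h1, h2, h3, h4, h5⟩ := hex.resolve_left hbig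
    push Not at hbig
    rcases eq_or_ne t 0 with rfl | ht
    · rw [zero_smul, sg_zero]
      exact L.one_mem
    · rw [hbig t ht, one_smul]
      exact line_comm hFw hFa haw h2 h1 h4 h3 h5

end CfsgLib.Geo.SympTwoOver
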