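/-
Two opposite centres without transvections: the constants form one quadratic form.
-/
import Cfsg.Agent.Lib.Geo.SympTwoOver.Perp
import Cfsg.Agent.Lib.Geo.SympTwoOver.Line

set_option autoImplicit false

namespace CfsgLib.Geo.SympTwoOver

open LinearMap (BilinForm)
open CfsgLib.Classical.Symp

variable {F : Type*} [Field F] [CharP F 2] {V : Type*} [AddCommGroup V] [Module F V] {B : BilinForm F V}
  {L : Subgroup (V ≃ₗ[F] V)} {hA : B.IsAlt}

/-- A centre of a full Siegel group without transvections. -/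
structure Pt (hA : B.IsAlt) (L : Subgroup (V ≃ₗ[F] V)) (p : V) : Prop where
  ne_zero : p ≠ 0
  full : Full hA L p
  sfree : SFree hA L p

theorem Pt.map (hL : L ≤ Sp B) {g : V ≃ₗ[F] V} (hg : g ∈ L) {p : V} (h : Pt hA L p) : Pt hA L (g p) :=
  ⟨fun e => h.ne_zero (by simpa using congrArg g.symm e), h.full.map hL hg, h.sfree.map hL hg⟩

theorem Pt.smul {p : V} (h : Pt hA L p) {σ : F} (hσ : σ ≠ 0) : Pt hA L (σ • p) :=
  ⟨smul_ne_zero hσ h.ne_zero, h.full.smul hσ, h.sfree.smul hσ⟩

/-- Two perpendicular centres give constant zero along their line. -/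
def LineHyp (hA : B.IsAlt) (L : Subgroup (V ≃ₗ[F] V)) : Prop :=
  ∀ p p', Pt hA L p → Pt hA L p' → B p' p = 0 → p' ∉ Submodule.span F {p} → ∀ t : F, sg hA p (t • p') 0 ∈ L

/-- An opposite pair of centres. -/
structure Opp (hA : B.IsAlt) (L : Subgroup (V ≃ₗ[F] V)) (a b : V) : Prop where
  le : L ≤ Sp B
  line : LineHyp hA L
  pa : Pt hA L a
  pb : Pt hA L b
  hab : B a b = 1

variable {a b : V} (h : Opp hA L a b)
include h

theorem Opp.hba : B b a = 1 := by rw [comm' hA]; exact h.hab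

theorem Opp.swap : Opp hA L b a := ⟨h.le, h.line, h.pb, h.pa, h.hba⟩

theorem Opp.notMem_span {w : V} (hw : w ∈ perp₂ B a b) (h0 : w ≠ 0) : a + w ∉ Submodule.span F {a} := by
  intro hm
  obtain ⟨c, hc⟩ := Submodule.mem_span_singleton.1 hm
  have := congrArg (fun x => B x b) hc
  rw [mem_perp₂] at hw
  simp only [LinearMap.map_smul, LinearMap.smul_apply, map_add, LinearMap.add_apply, h.hab, hw.2, smul_eq_mul,
    mul_one, add_zero] at this
  rw [this, one_smul, left_eq_add] at hc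
  exact h0 hc

/-- A zero constant at `b` gives zero constants at `a` on the whole line. -/
theorem Opp.zero_line {z : V} (hz : z ∈ perp₂ B a b) (hμ : sg hA b z 0 ∈ L) (t : F) : sg hA a (t • z) 0 ∈ L := by
  rcases eq_or_ne z 0 with rfl | h0
  · rw [smul_zero, sg_zero]
    exact L.one_mem
  have hz' := mem_perp₂.1 hz
  have e : sg hA b z 0 a = a + z := by
    rw [sg_apply hA hz'.2, h.hab, comm' hA a z, hz'.1]
    simp
  have hp := h.pa.map h.le hμ
  rw [e] at hp
  have := h.line a (a + z) h.pa hp (by simp [hA a, hz'.1]) (h.notMem_span hz h0) t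
  rwa [smul_add, add_comm, sg_add_smul hA (by simp [hz'.1])] at this

/-- The only centre on the line through `b` and `a` besides them is `b`. -/
theorem Opp.only_b [Fintype F] [FiniteDimensional F V] (hB : B.Nondegenerate) (h4 : 4 ≤ Module.finrank F V) {e : F}
    (hp : Pt hA L (b + e • a)) : e = 0 := by
  by_contra he
  obtain ⟨w, hw, hw0, hwL⟩ := exists_vector hB h4 h.hab h.pa.full e (Or.inl he)
  have hw' := mem_perp₂.1 hw
  have e1 : sg hA a w e (b + e • a) = b + w := by
    rw [sg_apply hA hw'.1]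
    simp only [map_add, LinearMap.add_apply, LinearMap.map_smul, LinearMap.smul_apply, smul_eq_mul, hA a, h.hba,
      comm' hA b w, comm' hA a w, hw'.1, hw'.2]
    match_scalars <;> simp [CharTwo.add_self_eq_zero]
  have hp' := hp.map h.le hwL
  rw [e1] at hp'
  have hw2 : w ∈ perp₂ B b a := ⟨hw'.2, hw'.1⟩
  have h1 := h.line b (b + w) h.pb hp' (by simp [hA b, hw'.2]) (h.swap.notMem_span hw2 hw0) 1
  rw [one_smul, show b + w = w + (1 : F) • b by rw [one_smul, add_comm], sg_add_smul hA hw'.2] at h1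
  have h2 := h.zero_line hw h1 1
  rw [one_smul] at h2
  exact he (SFree.unique h.pa.sfree hw'.1 hwL h2)

/-- The inversion of a vector with non-zero constant. -/
theorem Opp.invert [Fintype F] [FiniteDimensional F V] (hB : B.Nondegenerate) (h4 : 4 ≤ Module.finrank F V) {z : V}
    (hz : z ∈ perp₂ B a b) {μ : F} (hμL : sg hA b z μ ∈ L) (hμ : μ ≠ 0) : sg hA a (μ⁻¹ • z) μ⁻¹ ∈ L := by
  have hz' := mem_perp₂.1 hz
  have e : sg hA b z μ a = a + z + μ • b := by
    rw [sg_apply hA hz'.2, h.hab, comm' hA a z, hz'.1]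
    simp
  have hp := (h.pa.map h.le hμL).smul (inv_ne_zero hμ)
  rw [e] at hp
  have hwa : B (μ⁻¹ • z) a = 0 := by simp [hz'.1]
  obtain ⟨c, hc⟩ := h.pa.full (μ⁻¹ • z) hwa
  have hp' := hp.map h.le hc
  have e2 : sg hA a (μ⁻¹ • z) c (μ⁻¹ • (a + z + μ • b)) = b + (μ⁻¹ + c) • a := by
    rw [sg_apply hA hwa]
    simp only [map_add, LinearMap.add_apply, LinearMap.map_smul, LinearMap.smul_apply, smul_eq_mul, hA a, hA z,
      h.hba, comm' hA a z, comm' hA b z, hz'.1, hz'.2]
    match_scalars <;> field_simp <;> ring_nf <;> simp [CharTwo.two_eq_zero]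
  rw [e2] at hp'
  rwa [← CharTwo.add_eq_zero.1 (h.only_b hB h4 hp')] at hc

/-- The constants at the two centres agree and are quadratic on every line. -/
theorem Opp.quadratic [Fintype F] [FiniteDimensional F V] (hB : B.Nondegenerate) (h4 : 4 ≤ Module.finrank F V)
    {z : V} (hz : z ∈ perp₂ B a b) {μ : F} (hμL : sg hA b z μ ∈ L) (t : F) :
    sg hA a (t • z) (t ^ 2 * μ) ∈ L ∧ sg hA b (t • z) (t ^ 2 * μ) ∈ L := by
  classical
  have hz' := mem_perp₂.1 hz
  have hzs : ∀ s : F, s • z ∈ perp₂ B a b := fun s => Submodule.smul_mem _ s hz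
  have hz2 : ∀ s : F, s • z ∈ perp₂ B b a := fun s => ⟨(hzs s).2, (hzs s).1⟩
  rcases eq_or_ne μ 0 with rfl | hμ
  · have h1 := h.zero_line hz hμL 1
    rw [one_smul] at h1
    rw [mul_zero]
    exact ⟨h.zero_line hz hμL t, h.swap.zero_line ⟨hz'.2, hz'.1⟩ h1 t⟩
  have hfb : ∀ s : F, ∃ c, sg hA b (s • z) c ∈ L := fun s => h.pb.full _ (hzs s).2
  have hga : ∀ s : F, ∃ c, sg hA a (s • z) c ∈ L := fun s => h.pa.full _ (hzs s).1
  choose f hf using hfb
  choose g hg using hga
  have hadd : ∀ (p : V) (q : F → F), Pt hA L p → B z p = 0 → (∀ s, sg hA p (s • z) (q s) ∈ L) →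
      ∀ s s', q (s + s') = q s + q s' := by
    intro p q hp hzp hq s s'
    refine hp.sfree.unique (w := (s + s') • z) (by simp [hzp]) (hq _) ?_
    have := L.mul_mem (hq s) (hq s')
    rw [sg_mul hA (by simp [hzp]) (by simp [hzp]), LinearMap.map_smul, LinearMap.map_smul, LinearMap.smul_apply,
      hA z, smul_zero, smul_zero, add_zero, ← add_smul] at this
    exact this
  have hfa := hadd b f h.pb hz'.2 hf
  have hgz : ∀ s, g s = 0 → f s = 0 := fun s hs => by
    have := h.swap.zero_line (hz2 s) (hs ▸ hg s) 1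
    rw [one_smul] at this
    exact h.pb.sfree.unique (by simp [hz'.2]) (hf s) this
  have hfinj : ∀ s, f s = 0 → s = 0 := fun s hs => by
    by_contra hs0
    have h1 := h.zero_line (hzs s) (hs ▸ hf s) s⁻¹
    rw [smul_smul, inv_mul_cancel₀ hs0, one_smul] at h1
    have h2 := h.swap.zero_line ⟨hz'.2, hz'.1⟩ h1 1
    rw [one_smul] at h2
    exact hμ (h.pb.sfree.unique hz'.2 hμL h2)
  have hinv : ∀ s, f s ≠ 0 → g (s / f s) = (f s)⁻¹ := fun s hs => by
    refine h.pa.sfree.unique (by simp [hz'.1]) (hg _) ?_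
    have := h.invert hB h4 (hzs s) (hf s) hs
    rwa [smul_smul, ← div_eq_inv_mul] at this
  have hga' := hadd a g h.pa hz'.1 hg
  have bij : ∀ q : F → F, (∀ s s', q (s + s') = q s + q s') → (∀ s, q s = 0 → s = 0) → Function.Bijective q := by
    intro q hq hq0
    refine ⟨fun s s' e => ?_, ?_⟩
    · have := hq s s'
      rw [e, CharTwo.add_self_eq_zero] at this
      exact CharTwo.add_eq_zero.1 (hq0 _ this)
    · exact (Finite.injective_iff_surjective).1 fun s s' e => by
        have := hq s s'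
        rw [e, CharTwo.add_self_eq_zero] at this
        exact CharTwo.add_eq_zero.1 (hq0 _ this)
  obtain ⟨Fi, hFl, hFr⟩ := Function.bijective_iff_has_inverse.1 (bij f hfa hfinj)
  obtain ⟨Gi, hGl, hGr⟩ := Function.bijective_iff_has_inverse.1
    (bij g hga' fun s hs => hfinj s (hgz s hs))
  have hFadd : ∀ x y, Fi (x + y) = Fi x + Fi y := fun x y =>
    (bij f hfa hfinj).1 (by rw [hfa, hFr, hFr, hFr])
  have hGadd : ∀ x y, Gi (x + y) = Gi x + Gi y := fun x y =>
    (bij g hga' fun s hs => hfinj s (hgz s hs)).1 (by rw [hga', hGr, hGr, hGr])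
  have hF0 : Fi 0 = 0 := by simpa using hFadd 0 0
  have hFG : ∀ c, c ≠ 0 → Gi c⁻¹ = Fi c / c := fun c hc => by
    have := hinv (Fi c) (by rw [hFr]; exact hc)
    rw [hFr] at this
    rw [← this, hGl]
  set k := Fi 1 with hk
  have hsq : ∀ c, Fi (c ^ 2) = c * k := by
    intro c
    rcases eq_or_ne c 0 with rfl | hc
    · rw [zero_pow two_ne_zero, zero_mul, hF0]
    rcases eq_or_ne c 1 with rfl | hc1
    · rw [one_pow, one_mul]
    have hc1' : c + 1 ≠ 0 := fun e => hc1 (CharTwo.add_eq_zero.1 e)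
    have hq : c ^ 2 + c ≠ 0 := by
      rw [show c ^ 2 + c = c * (c + 1) by ring]
      exact mul_ne_zero hc hc1'
    have e1 : c⁻¹ + (c + 1)⁻¹ = (c ^ 2 + c)⁻¹ := by
      field_simp
      linear_combination c * CharTwo.two_eq_zero (R := F)
    have e2 := hGadd c⁻¹ (c + 1)⁻¹
    rw [e1, hFG _ hc, hFG _ hc1', hFG _ hq, hFadd (c ^ 2) c, hFadd c 1, ← hk] at e2
    rw [div_add_div _ _ hc hc1', show c * (c + 1) = c ^ 2 + c by ring, div_left_inj' hq] at e2
    linear_combination e2 + (c * Fi c) * CharTwo.two_eq_zero (R := F)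
  have hk0 : k ≠ 0 := fun e => one_ne_zero (α := F) (by
    have := hFr 1
    rw [← hk, e] at this
    have h0 := hfa 0 0
    rw [add_zero, CharTwo.add_self_eq_zero] at h0
    rw [← this, h0])
  have hf2 : ∀ s, f s = s ^ 2 * μ := by
    have hff : ∀ s, f s = (s / k) ^ 2 := fun s => by
      have := hsq (s / k)
      rw [div_mul_cancel₀ s hk0] at this
      conv_lhs => rw [← this]
      exact hFr _
    intro s
    have h1 : μ = f 1 := h.pb.sfree.unique hz'.2 hμL (by simpa using hf 1)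
    rw [h1, hff, hff 1]
    ring
  refine ⟨?_, hf2 t ▸ hf t⟩
  rcases eq_or_ne t 0 with rfl | ht
  · rw [zero_pow two_ne_zero, zero_mul, zero_smul, sg_zero]
    exact L.one_mem
  have hne : t⁻¹ / μ ≠ 0 := div_ne_zero (inv_ne_zero ht) hμ
  have hne' : f (t⁻¹ / μ) ≠ 0 := fun e => hne (hfinj _ e)
  have h1 := h.invert hB h4 (hzs _) (hf (t⁻¹ / μ)) hne'
  rw [hf2, smul_smul, show ((t⁻¹ / μ) ^ 2 * μ)⁻¹ * (t⁻¹ / μ) = t by field_simp,
    show ((t⁻¹ / μ) ^ 2 * μ)⁻¹ = t ^ 2 * μ by field_simp] at h1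
  exact h1

end CfsgLib.Geo.SympTwoOver
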