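/-
The quadratic form preserved in the absence of transvections at an opposite pair of centres.
-/
import Cfsg.Agent.Lib.Geo.SympTwoOver.Opposite

set_option autoImplicit false

namespace CfsgLib.Geo.SympTwoOver

open LinearMap (BilinForm)
open CfsgLib.Classical.Symp

variable {F : Type*} [Field F] [CharP F 2] {V : Type*} [AddCommGroup V] [Module F V] {B : BilinForm F V}
  {L : Subgroup (V ≃ₗ[F] V)} {hA : B.IsAlt}

theorem quad_add {Q : QuadraticForm F V} (hpol : ∀ u v, QuadraticMap.polar (⇑Q) u v = B u v) (u v : V) :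
    Q (u + v) = Q u + Q v + B u v := by
  rw [QuadraticMap.map_add Q, hpol]

theorem quad_smul (Q : QuadraticForm F V) (t : F) (u : V) : Q (t • u) = t ^ 2 * Q u := by
  rw [QuadraticMap.map_smul, smul_eq_mul, sq]

theorem sg_preserves {Q : QuadraticForm F V} (hpol : ∀ u v, QuadraticMap.polar (⇑Q) u v = B u v) {p w : V}
    (hp : Q p = 0) (hw : B w p = 0) (u : V) : Q (sg hA p w (Q w) u) = Q u := by
  rw [sg_apply hA hw, quad_add hpol, quad_add hpol, quad_smul, quad_smul, hp]
  simp only [map_add, LinearMap.add_apply, LinearMap.map_smul, LinearMap.smul_apply, smul_eq_mul, hw]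
  linear_combination (B u p * B u w + B u p ^ 2 * Q w) * CharTwo.two_eq_zero (R := F)

theorem quad_a_add {Q : QuadraticForm F V} (hpol : ∀ u v, QuadraticMap.polar (⇑Q) u v = B u v) {a w : V}
    (ha : Q a = 0) (hw : B w a = 0) (t : F) : Q (w + t • a) = Q w := by
  rw [quad_add hpol, quad_smul, ha, LinearMap.map_smul, hw, smul_zero, mul_zero, add_zero, add_zero]

variable {a b : V} [Fintype F] [FiniteDimensional F V]

theorem Opp.exists_form (h : Opp hA L a b) (hB : B.Nondegenerate) (h4 : 4 ≤ Module.finrank F V) :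
    ∃ Q : QuadraticForm F V, (∀ u v, QuadraticMap.polar (⇑Q) u v = B u v) ∧ Q a = 0 ∧ Q b = 0 ∧
      (∀ w, B w a = 0 → sg hA a w (Q w) ∈ L) ∧ (∀ w, B w b = 0 → sg hA b w (Q w) ∈ L) := by
  classical
  have hex : ∀ u, ∃ c, sg hA b (proj B a b u) c ∈ L := fun u => h.pb.full _ (proj_mem hA h.hab u).2
  choose l hl using hex
  have hla : ∀ u, sg hA a (proj B a b u) (l u) ∈ L := fun u => by
    have := (h.quadratic hB h4 (proj_mem hA h.hab u) (hl u) 1).1
    rwa [one_smul, one_pow, one_mul] at this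
  have hl_add : ∀ u v, l (u + v) = l u + l v + B (proj B a b u) (proj B a b v) := fun u v => by
    refine h.pb.sfree.unique (proj_mem hA h.hab _).2 (hl _) ?_
    have := L.mul_mem (hl v) (hl u)
    rw [sg_mul hA (proj_mem hA h.hab v).2 (proj_mem hA h.hab u).2, add_comm (proj B a b v), ← map_add,
      add_comm (l v)] at this
    exact this
  have hl_smul : ∀ (t : F) u, l (t • u) = t ^ 2 * l u := fun t u => by
    refine h.pb.sfree.unique (proj_mem hA h.hab _).2 (hl _) ?_
    rw [LinearMap.map_smul]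
    exact (h.quadratic hB h4 (proj_mem hA h.hab u) (hl u) t).2
  let f : V → F := fun u => B u b * B u a + l u
  have hpol : ∀ u v, QuadraticMap.polar f u v = B u v := fun u v => by
    simp only [QuadraticMap.polar, f, hl_add, map_add, LinearMap.add_apply]
    rw [proj_pair hA u (proj_mem hA h.hab v), proj_apply]
    simp only [map_add, LinearMap.map_smul, smul_eq_mul]
    linear_combination (B u b * B v a + B u a * B v b) * CharTwo.two_eq_zero (R := F)
  let Q : QuadraticForm F V := QuadraticMap.ofPolar f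
    (fun t u => by simp only [f, hl_smul, LinearMap.map_smul, LinearMap.smul_apply, smul_eq_mul]; ring)
    (fun u u' v => by simp only [hpol, map_add, LinearMap.add_apply])
    (fun t u v => by simp only [hpol, LinearMap.map_smul, LinearMap.smul_apply])
  have hpa : proj B a b a = 0 := by
    rw [proj_apply, h.hab, hA a, one_smul, zero_smul, add_zero, add_self' F]
  have hpb : proj B a b b = 0 := by
    rw [proj_apply, hA b, h.hba, one_smul, zero_smul, add_zero, add_self' F]
  have hl0 : ∀ u, proj B a b u = 0 → l u = 0 := fun u hu => by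
    refine h.pb.sfree.unique (w := 0) (by simp) (hu ▸ hl u) ?_
    rw [sg_zero]
    exact L.one_mem
  have hQpol : ∀ u v, QuadraticMap.polar (⇑Q) u v = B u v := hpol
  have hQa : Q a = 0 := by
    show B a b * B a a + l a = 0
    rw [hA a, mul_zero, zero_add, hl0 a hpa]
  have hQb : Q b = 0 := by
    show B b b * B b a + l b = 0
    rw [hA b, zero_mul, zero_add, hl0 b hpb]
  refine ⟨Q, hQpol, hQa, hQb, fun w hw => ?_, fun w hw => ?_⟩
  · have e : w = proj B a b w + B w b • a := by
      conv_lhs => rw [← decompose hA a b w, hw, zero_smul, add_zero]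
    have := hla w
    rw [← sg_add_smul hA (proj_mem hA h.hab w).1 (B w b), ← e] at this
    show sg hA a w (B w b * B w a + l w) ∈ L
    rwa [hw, mul_zero, zero_add]
  · have e : w = proj B a b w + B w a • b := by
      conv_lhs => rw [← decompose hA a b w, hw, zero_smul, add_zero]
    have := hl w
    rw [← sg_add_smul hA (proj_mem hA h.hab w).2 (B w a), ← e] at this
    show sg hA b w (B w b * B w a + l w) ∈ L
    rwa [hw, zero_mul, zero_add]

/-- The subgroup generated by the two Siegel groups at singular opposite points. -/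
def siegelPair (hA : B.IsAlt) (Q : QuadraticForm F V) (a b : V) : Subgroup (V ≃ₗ[F] V) :=
  Subgroup.closure {g | ∃ w, (B w a = 0 ∧ g = sg hA a w (Q w)) ∨ (B w b = 0 ∧ g = sg hA b w (Q w))}

omit [Fintype F] [FiniteDimensional F V] in
theorem siegelPair_swap (Q : QuadraticForm F V) (a b : V) : siegelPair hA Q b a = siegelPair hA Q a b := by
  refine congrArg Subgroup.closure (Set.ext fun g => ?_)
  constructor <;> rintro ⟨w, h | h⟩ <;> exact ⟨w, by tauto⟩

omit [Fintype F] [FiniteDimensional F V] in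
theorem sg_a_mem (Q : QuadraticForm F V) (a b : V) {w : V} (hw : B w a = 0) : sg hA a w (Q w) ∈ siegelPair hA Q a b :=
  Subgroup.subset_closure ⟨w, Or.inl ⟨hw, rfl⟩⟩

omit [Fintype F] [FiniteDimensional F V] in
theorem sg_b_mem (Q : QuadraticForm F V) (a b : V) {w : V} (hw : B w b = 0) : sg hA b w (Q w) ∈ siegelPair hA Q a b :=
  Subgroup.subset_closure ⟨w, Or.inr ⟨hw, rfl⟩⟩

variable {Q : QuadraticForm F V} (hpol : ∀ u v, QuadraticMap.polar (⇑Q) u v = B u v) (hQa : Q a = 0) (hQb : Q b = 0)
  (hab : B a b = 1)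
include hpol hQa hQb hab

omit [Fintype F] in
/-- The form takes every value on the perpendicular plane. -/
theorem exists_perp_value [Fintype F] (hA : B.IsAlt) (hB : B.Nondegenerate) (h4 : 4 ≤ Module.finrank F V) (c : F)
    (hc : c ≠ 0) : ∃ w ∈ perp₂ B a b, w ≠ 0 ∧ Q w = c := by
  classical
  haveI : Finite V := Module.finite_of_finite F
  haveI : Fintype (perp₂ B a b) := Fintype.ofFinite _
  obtain ⟨w, hw0, hw⟩ := exists_value (f := fun w : perp₂ B a b => Q (w : V))
    (β := fun x h : perp₂ B a b => B (x : V) h) (fun x y h => by simp) (fun x => by simp)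
    (fun x h => quad_add hpol _ _)
    (fun h h0 v => by
      obtain ⟨x, hx, hxc⟩ := exists_mem_perp hA hB hab h.2 (fun e => h0 (Subtype.ext e)) v
      exact ⟨⟨x, hx⟩, hxc⟩)
    c (Fintype.one_lt_card (α := F)) (by
      rw [Module.card_eq_pow_finrank (K := F) (V := perp₂ B a b)]
      have h2 : 2 ≤ Module.finrank F (perp₂ B a b) := by have := finrank_perp₂ (B := B) a b; omega
      exact Nat.pow_le_pow_right (Fintype.card_pos (α := F)) h2)
    (Or.inl hc)
  exact ⟨w, w.2, fun e => hw0 (Subtype.ext e), hw⟩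

omit [Fintype F] [FiniteDimensional F V] in
/-- Singular vectors not perpendicular to `a` are reached from multiples of `b`. -/
theorem exists_map_b {p : V} (hp : Q p = 0) (hpa : B p a ≠ 0) :
    ∃ g ∈ siegelPair hA Q a b, g (B p a • b) = p ∧ g a = a := by
  have hw : B (proj B a b p) a = 0 := (proj_mem hA hab p).1
  have hwb : B (proj B a b p) b = 0 := (proj_mem hA hab p).2
  have hq : Q (proj B a b p) = B p b * B p a := by
    have e := congrArg (⇑Q) (decompose hA a b p)
    rw [hp, quad_add hpol, quad_a_add hpol hQa hw, quad_smul, hQb] at e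
    simp only [map_add, LinearMap.add_apply, LinearMap.map_smul, LinearMap.smul_apply, smul_eq_mul, hab, hwb] at e
    linear_combination e + (-(B p b * B p a)) * CharTwo.two_eq_zero (R := F)
  refine ⟨sg hA a ((B p a)⁻¹ • proj B a b p) (Q ((B p a)⁻¹ • proj B a b p)), sg_a_mem Q a b (by simp [hw]), ?_,
    by rw [sg_apply hA (by simp [hw])]; simp [hA a, comm' hA a (proj B a b p), hw]⟩
  rw [sg_apply hA (by simp [hw])]
  simp only [LinearMap.map_smul, LinearMap.smul_apply, smul_eq_mul, quad_smul, hq, comm' hA b a, hab,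
    comm' hA b (proj B a b p), hwb]
  conv_rhs => rw [← decompose hA a b p]
  match_scalars <;> field_simp <;> ring

omit [Fintype F] in
theorem exists_map_singular [Fintype F] (hB : B.Nondegenerate) (h4 : 4 ≤ Module.finrank F V) {p : V}
    (hp : Q p = 0) (hp0 : p ≠ 0) : ∃ g ∈ siegelPair hA Q a b, ∃ c : F, c ≠ 0 ∧ g (c • b) = p := by
  have hba : B b a = 1 := by rw [comm' hA]; exact hab
  have stepA : ∀ p, Q p = 0 → B p a ≠ 0 → ∃ g ∈ siegelPair hA Q a b, ∃ c : F, c ≠ 0 ∧ g (c • b) = p :=
    fun p hp hpa => by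
      obtain ⟨g, hg, e, -⟩ := exists_map_b hpol hQa hQb hab hp hpa
      exact ⟨g, hg, _, hpa, e⟩
  -- `a` itself
  obtain ⟨z, hz, -, hzc⟩ := exists_perp_value hpol hQa hQb hab hA hB h4 1 one_ne_zero
  have hz' := mem_perp₂.1 hz
  have hxa : B (sg hA b z (Q z) a) a ≠ 0 := by
    rw [sg_apply hA hz'.2, hzc, hab, comm' hA a z, hz'.1]
    simp [hA a, hz'.1, hba]
  obtain ⟨g₁, hg₁, c₁, hc₁, e₁⟩ := stepA _ (by rw [sg_preserves hpol hQb hz'.2]; exact hQa) hxa
  have ha : ∃ g ∈ siegelPair hA Q a b, ∃ c : F, c ≠ 0 ∧ g (c • b) = a := by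
    refine ⟨(sg hA b z (Q z))⁻¹ * g₁, mul_mem (inv_mem (sg_b_mem Q a b hz'.2)) hg₁, c₁, hc₁, ?_⟩
    rw [LinearEquiv.mul_apply, e₁, LinearEquiv.coe_inv, LinearEquiv.symm_apply_apply]
  by_cases hpa : B p a = 0
  swap
  · exact stepA p hp hpa
  by_cases hpb : B p b = 0
  · -- perpendicular to both: move off
    obtain ⟨f, hf⟩ := Submodule.exists_dual_map_eq_bot_of_notMem (show p ∉ (⊥ : Submodule F V) by simpa using hp0)
      inferInstance
    obtain ⟨u₀, hu₀⟩ := exists_polar_eq hB ((f p)⁻¹ • f)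
    set u := proj B a b u₀
    have hu : u ∈ perp₂ B a b := proj_mem hA hab u₀
    have hup : B u p = 1 := by
      rw [proj_pair hA u₀ (show p ∈ perp₂ B a b from ⟨hpa, hpb⟩), hu₀, LinearMap.smul_apply, smul_eq_mul,
        inv_mul_cancel₀ hf.1]
    have hx : B (sg hA b u (Q u) p) a ≠ 0 := by
      rw [sg_apply hA hu.2, hpb, comm' hA p u, hup]
      simp [hba, hpa]
    obtain ⟨g, hg, c, hc, e⟩ := stepA _ (by rw [sg_preserves hpol hQb hu.2]; exact hp) hx
    refine ⟨(sg hA b u (Q u))⁻¹ * g, mul_mem (inv_mem (sg_b_mem Q a b hu.2)) hg, c, hc, ?_⟩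
    rw [LinearEquiv.mul_apply, e, LinearEquiv.coe_inv, LinearEquiv.symm_apply_apply]
  · obtain ⟨g, hg, e, -⟩ := exists_map_b (hA := hA) (a := b) (b := a) hpol hQb hQa hba hp hpb
    rw [siegelPair_swap] at hg
    obtain ⟨k, hk, c, hc, ek⟩ := ha
    refine ⟨g * k, mul_mem hg hk, B p b * c, mul_ne_zero hpb hc, ?_⟩
    rw [LinearEquiv.mul_apply, mul_smul, LinearEquiv.map_smul, ek, e]

end CfsgLib.Geo.SympTwoOver
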