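/-
The parity of the moved space is multiplicative, also in the orthogonal group without enough reflections.
-/
import Cfsg.Agent.Lib.Known.OmegaCriterion

set_option autoImplicit false

namespace CfsgLib.Geo.SympTwoOver

open CfsgLib.Classical.Quad CfsgLib.Known.OmegaCriterion
open QuadraticMap (polar polarBilin)

variable {F : Type*} [Field F] {V : Type*} [AddCommGroup V] [Module F V]

/-- A hyperbolic plane. -/
def planeForm (F : Type*) [Field F] : QuadraticForm F (F × F) :=
  QuadraticMap.linMulLin (LinearMap.fst F F F) (LinearMap.snd F F F)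

theorem planeForm_apply (x : F × F) : planeForm F x = x.1 * x.2 := rfl

theorem planeForm_polar (x y : F × F) : polar (⇑(planeForm F)) x y = x.1 * y.2 + y.1 * x.2 := by
  simp [QuadraticMap.polar, planeForm_apply]
  ring

/-- The extension of an isometry by the identity of a hyperbolic plane. -/
def extend (Q : QuadraticForm F V) : OQ Q →* OQ (Q.prod (planeForm F)) where
  toFun g := ⟨(g : V ≃ₗ[F] V).prodCongr (LinearEquiv.refl F (F × F)), mem_OQ.2 fun v => by
    simp [QuadraticMap.prod_apply, mem_OQ.1 g.2 v.1]⟩
  map_one' := Subtype.ext (LinearEquiv.ext fun v => rfl)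
  map_mul' g h := Subtype.ext (LinearEquiv.ext fun v => rfl)

theorem mov_extend {Q : QuadraticForm F V} (g : OQ Q) :
    mov (extend Q g) = (mov g).map (LinearMap.inl F V (F × F)) := by
  ext x
  constructor
  · rintro ⟨z, rfl⟩
    exact ⟨_, ⟨z.1, rfl⟩, Prod.ext rfl (sub_self z.2).symm⟩
  · rintro ⟨_, ⟨z, rfl⟩, rfl⟩
    exact ⟨(z, 0), Prod.ext rfl (sub_self (0 : F × F))⟩

theorem par_mul' [FiniteDimensional F V] {Q : QuadraticForm F V} (hQ : (polarBilin Q).Nondegenerate)
    (h3 : 3 ≤ Module.finrank F V) (g h : OQ Q) : par (g * h) = par g + par h := by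
  have hpol : ∀ x y : V × (F × F), polar (⇑(Q.prod (planeForm F))) x y =
      polar (⇑Q) x.1 y.1 + polar (⇑(planeForm F)) x.2 y.2 := fun x y => by
    simp [QuadraticMap.polar, QuadraticMap.prod_apply]
    ring
  have hQ' : (polarBilin (Q.prod (planeForm F))).Nondegenerate := by
    have hl : ∀ x : V × (F × F), (∀ y, polar (⇑(Q.prod (planeForm F))) x y = 0) → x = 0 := by
      intro x hx
      have h1 : x.1 = 0 := hQ.1 _ fun y => by
        have := hx (y, 0)
        rw [hpol, planeForm_polar] at this
        simpa using this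
      have h2 := hx (0, (0, 1))
      have h3 := hx (0, (1, 0))
      rw [hpol, planeForm_polar] at h2 h3
      simp [h1] at h2 h3
      exact Prod.ext h1 (Prod.ext h2 h3)
    exact ⟨hl, fun y hy => hl y fun x => by
      have := hy x
      rw [QuadraticMap.polar_comm]
      exact this⟩
  have hR : reflGroup (Q.prod (planeForm F)) = ⊤ := reflGroup_eq_top hQ' (Or.inr (by
    rw [Module.finrank_prod, Module.finrank_prod, Module.finrank_self]
    omega))
  have e : ∀ k : OQ Q, par (extend Q k) = par k := fun k => by
    rw [par, par, mov_extend, ← (Submodule.equivMapOfInjective _ LinearMap.inl_injective (mov k)).finrank_eq]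
  rw [← e, map_mul, par_mul hQ' hR, e, e]

end CfsgLib.Geo.SympTwoOver
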