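/-
The two Siegel groups generate the kernel of the parity in the orthogonal group.
-/
import Cfsg.Agent.Lib.Geo.SympTwoOver.Form
import Cfsg.Agent.Lib.Geo.SympTwoOver.Parity
import Cfsg.Agent.Lib.Known.OmegaCriterion

set_option autoImplicit false

namespace CfsgLib.Geo.SympTwoOver

open LinearMap (BilinForm)
open CfsgLib.Classical.Symp CfsgLib.Classical.Quad CfsgLib.Known.OmegaCriterion
open QuadraticMap (polar polarBilin)

variable {F : Type*} [Field F] [CharP F 2] [Fintype F] {V : Type*} [AddCommGroup V] [Module F V]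
  [FiniteDimensional F V] {B : BilinForm F V} {hA : B.IsAlt} {a b : V}
  {Q : QuadraticForm F V} (hpol : ∀ u v, QuadraticMap.polar (⇑Q) u v = B u v) (hQa : Q a = 0) (hQb : Q b = 0)
  (hab : B a b = 1)

omit [CharP F 2] [Fintype F] [FiniteDimensional F V] in
include hpol in
theorem polar_nondeg (hB : B.Nondegenerate) : (polarBilin Q).Nondegenerate := by
  have e : polarBilin Q = B := LinearMap.ext fun u => LinearMap.ext fun v => hpol u v
  rwa [e]

/-- The Siegel element as an isometry. -/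
noncomputable def sgQ {p w : V} (hp : Q p = 0) (hw : B w p = 0) : OQ Q :=
  ⟨sg hA p w (Q w), mem_OQ.2 (sg_preserves hpol hp hw)⟩

include hpol in
omit [Fintype F] in
theorem par_sgQ (hB : B.Nondegenerate) {p w : V} (hp : Q p = 0) (hp0 : p ≠ 0) (hw : B w p = 0) :
    par (sgQ (hA := hA) hpol hp hw) = 0 := by
  by_cases hs : w ∈ Submodule.span F {p}
  · obtain ⟨c, rfl⟩ := Submodule.mem_span_singleton.1 hs
    have h1 : sgQ (hA := hA) hpol hp hw = 1 := by
      refine Subtype.ext ?_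
      show sg hA p (c • p) (Q (c • p)) = 1
      rw [quad_smul, hp, mul_zero, ← zero_add (c • p), sg_add_smul hA (by simp), sg_zero]
    rw [h1]
    exact par_one (polar_nondeg hpol hB)
  have hmov : mov (sgQ (hA := hA) hpol hp hw) = Submodule.span F ({w, p} : Set V) := by
    have e : ∀ z, movMap (sgQ (hA := hA) hpol hp hw) z = B z p • w + (B z w + Q w * B z p) • p := fun z => by
      rw [movMap_apply]
      show z - sg hA p w (Q w) z = _
      rw [sg_apply hA hw]
      match_scalars <;> simp [CharTwo.neg_eq, CharTwo.add_self_eq_zero]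
    refine le_antisymm ?_ ?_
    · rintro _ ⟨z, rfl⟩
      rw [e]
      exact Submodule.mem_span_pair.2 ⟨_, _, rfl⟩
    · obtain ⟨u, hu1, hu2⟩ := exists_two_values hB hp0 hs 0 1
      obtain ⟨u', hu1', hu2'⟩ := exists_two_values hB hp0 hs 1 (Q w)
      rw [Submodule.span_le]
      rintro x (rfl | rfl)
      · exact ⟨u', by rw [e, hu1', hu2', mul_one, CharTwo.add_self_eq_zero, zero_smul, add_zero, one_smul]⟩
      · exact ⟨u, by rw [e, hu1, hu2]; simp⟩
  have hr : Module.finrank F (Submodule.span F ({w, p} : Set V)) = 2 := by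
    have hli : LinearIndependent F ![p, w] := by
      rw [LinearIndependent.pair_iff' hp0]
      exact fun c hc => hs (Submodule.mem_span_singleton.2 ⟨c, hc⟩)
    have := finrank_span_eq_card hli
    rw [Matrix.range_cons_cons_empty, Fintype.card_fin] at this
    rw [Set.pair_comm]
    exact this
  rw [par, hmov, hr]
  rfl

/-- The subgroup generated by the two Siegel groups inside the isometry group. -/
noncomputable def pairQ (hA : B.IsAlt) (Q : QuadraticForm F V) (a b : V) : Subgroup (OQ Q) :=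
  (siegelPair hA Q a b).comap (OQ Q).subtype

omit [Fintype F] [FiniteDimensional F V] in
include hpol hQa hQb in
theorem siegelPair_le_OQ : siegelPair hA Q a b ≤ OQ Q := by
  refine (Subgroup.closure_le _).2 ?_
  rintro g ⟨w, ⟨hw, rfl⟩ | ⟨hw, rfl⟩⟩
  · exact mem_OQ.2 (sg_preserves hpol hQa hw)
  · exact mem_OQ.2 (sg_preserves hpol hQb hw)

omit [Fintype F] in
include hpol hQa hQb hab in
theorem par_pairQ (hB : B.Nondegenerate) (h4 : 4 ≤ Module.finrank F V) {g : OQ Q} (hg : g ∈ pairQ hA Q a b) :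
    par g = 0 := by
  have ha0 : a ≠ 0 := fun e => one_ne_zero (α := F) (by rw [← hab, e]; simp)
  have hb0 : b ≠ 0 := fun e => one_ne_zero (α := F) (by rw [← hab, e]; simp)
  have hQ := polar_nondeg hpol hB
  suffices ∀ k ∈ siegelPair hA Q a b, ∀ hk : k ∈ OQ Q, par (⟨k, hk⟩ : OQ Q) = 0 from this _ hg g.2
  intro k hk
  induction hk using Subgroup.closure_induction with
  | mem x hx =>
    rintro hk
    obtain ⟨w, ⟨hw, rfl⟩ | ⟨hw, rfl⟩⟩ := hx
    · exact par_sgQ (hA := hA) hpol hB hQa ha0 hw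
    · exact par_sgQ (hA := hA) hpol hB hQb hb0 hw
  | one => exact fun _ => par_one hQ
  | mul x y hx hy ihx ihy =>
    intro hk
    have hxO : x ∈ OQ Q := siegelPair_le_OQ (hA := hA) hpol hQa hQb hx
    have hyO : y ∈ OQ Q := siegelPair_le_OQ (hA := hA) hpol hQa hQb hy
    rw [show (⟨x * y, hk⟩ : OQ Q) = ⟨x, hxO⟩ * ⟨y, hyO⟩ from rfl, par_mul' hQ (by omega), ihx, ihy, add_zero]
  | inv x hx ih =>
    intro hk
    have hxO : x ∈ OQ Q := siegelPair_le_OQ (hA := hA) hpol hQa hQb hx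
    have h1 := par_mul' hQ (by omega) (⟨x⁻¹, hk⟩ : OQ Q) ⟨x, hxO⟩
    rwa [show (⟨x⁻¹, hk⟩ : OQ Q) * ⟨x, hxO⟩ = 1 from Subtype.ext (inv_mul_cancel x), par_one hQ, ih, add_zero,
      eq_comm] at h1

omit [Fintype F] [FiniteDimensional F V] in
include hpol hQa hQb hab in
/-- The product of the two reflections at a vector of the perpendicular and in the plane. -/
theorem refl_pair_mem {z : V} (hz : z ∈ perp₂ B a b) (hQz : Q z ≠ 0) (hv : Q (a + Q z • b) ≠ 0) :
    refl hQz * refl hv ∈ pairQ hA Q a b := by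
  have hz' := mem_perp₂.1 hz
  have hba : B b a = 1 := by rw [comm' hA]; exact hab
  have hw : B ((Q z)⁻¹ • z) a = 0 := by simp [hz'.1]
  show ((refl hQz * refl hv : OQ Q) : V ≃ₗ[F] V) ∈ siegelPair hA Q a b
  convert mul_mem (mul_mem (sg_b_mem (hA := hA) Q a b hz'.2) (sg_a_mem (hA := hA) Q a b hw))
    (sg_b_mem (hA := hA) Q a b hz'.2) using 1
  refine LinearEquiv.ext fun u => ?_
  have hqv : Q (a + Q z • b) = Q z := by
    rw [quad_add hpol, quad_smul, hQa, hQb, LinearMap.map_smul, hab, smul_eq_mul]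
    ring
  rw [refl_mul_refl_apply, refl_apply, refl_apply, hqv, LinearEquiv.mul_apply, LinearEquiv.mul_apply,
    sg_apply hA hz'.2, sg_apply hA hw, sg_apply hA hz'.2, quad_smul]
  simp only [hpol, map_add, map_sub, LinearMap.add_apply, LinearMap.sub_apply, LinearMap.map_smul,
    LinearMap.smul_apply, smul_eq_mul, hA a, hA b, hA z, hab, hba, comm' hA a z, comm' hA b z, hz'.1, hz'.2,
    comm' hA z u, comm' hA a u, comm' hA b u]
  have h4 : (4 : F) = 0 := by linear_combination 2 * CharTwo.two_eq_zero (R := F)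
  have h3 : (3 : F) = 1 := by linear_combination CharTwo.two_eq_zero (R := F)
  match_scalars <;> field_simp <;> ring_nf <;>
    simp [CharTwo.two_eq_zero, CharTwo.neg_eq, CharTwo.sub_eq_add, h3, h4]

include hpol hQa hQb hab in
/-- Every isometry lies in the pair group or its translate by one reflection. -/
theorem mem_pairQ_or (hB : B.Nondegenerate) (h4 : 4 ≤ Module.finrank F V)
    (hgen : ∀ g : OQ Q, ∃ k ∈ pairQ hA Q a b, k * g ∈ reflGroup Q) :
    ∃ r : OQ Q, par r = 1 ∧ ∀ g : OQ Q, g ∈ pairQ hA Q a b ∨ r * g ∈ pairQ hA Q a b := by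
  obtain ⟨z₀, hz₀, -, hQz₀⟩ := exists_perp_value hpol hQa hQb hab hA hB h4 1 one_ne_zero
  have hne : Q z₀ ≠ 0 := by rw [hQz₀]; exact one_ne_zero
  have hQ := polar_nondeg hpol hB
  set K := pairQ hA Q a b
  set r₀ : OQ Q := refl hne
  have hr2 : r₀ * r₀ = 1 := refl_mul_self hne
  have hz' := mem_perp₂.1 hz₀
  have hfix : ∀ p, B p z₀ = 0 → (r₀ : V ≃ₗ[F] V) p = p := fun p hp => by
    rw [refl_apply, hpol, hp, mul_zero, zero_smul, sub_zero]
  have hnorm : ∀ k ∈ K, r₀ * k * r₀ ∈ K := by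
    intro k hk
    show ((r₀ * k * r₀ : OQ Q) : V ≃ₗ[F] V) ∈ siegelPair hA Q a b
    have hinv : (r₀ : V ≃ₗ[F] V)⁻¹ = (r₀ : V ≃ₗ[F] V) :=
      inv_eq_of_mul_eq_one_right (congrArg Subtype.val hr2)
    have hB' : ∀ x y, B ((r₀ : V ≃ₗ[F] V) x) ((r₀ : V ≃ₗ[F] V) y) = B x y := fun x y => by
      rw [← hpol, ← hpol, OQ.map_polar]
    have hgen : siegelPair hA Q a b ≤
        (siegelPair hA Q a b).comap (MulAut.conj (r₀ : V ≃ₗ[F] V)).toMonoidHom := by
      refine (Subgroup.closure_le _).2 ?_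
      rintro g ⟨w, hw⟩
      rw [SetLike.mem_coe, Subgroup.mem_comap, MulEquiv.coe_toMonoidHom, MulAut.conj_apply]
      rcases hw with ⟨hw, rfl⟩ | ⟨hw, rfl⟩
      · have e : (r₀ : V ≃ₗ[F] V) a = a := hfix a (by rw [comm' hA]; exact hz'.1)
        rw [sg_conj hA hB' hw, e, ← OQ.map_apply r₀ w]
        exact sg_a_mem Q a b (by rw [← e, hB']; exact hw)
      · have e : (r₀ : V ≃ₗ[F] V) b = b := hfix b (by rw [comm' hA]; exact hz'.2)
        rw [sg_conj hA hB' hw, e, ← OQ.map_apply r₀ w]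
        exact sg_b_mem Q a b (by rw [← e, hB']; exact hw)
    have h := Subgroup.mem_comap.1 (hgen hk)
    rw [MulEquiv.coe_toMonoidHom, MulAut.conj_apply, hinv] at h
    exact h
  -- reflections lie in the translate
  have hrefl : ∀ (v : V) (hv : Q v ≠ 0), r₀ * refl hv ∈ K := by
    have hplane : ∀ (μ : F) (hμ : Q (a + μ • b) ≠ 0), r₀ * refl hμ ∈ K := fun μ hμ => by
      have hμ0 : μ ≠ 0 := fun e => hμ (by rw [e, zero_smul, add_zero, hQa])
      obtain ⟨s, hs⟩ : ∃ s : F, s ^ 2 = μ :=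
        (Finite.injective_iff_surjective.1 fun _ _ e => CharTwo.sq_injective e) μ
      have hs0 : s ≠ 0 := fun e => hμ0 (by rw [← hs, e, zero_pow two_ne_zero])
      have hQs : Q (s • z₀) = μ := by rw [quad_smul, hQz₀, mul_one, hs]
      have h := refl_pair_mem (hA := hA) hpol hQa hQb hab (z := s • z₀) (Submodule.smul_mem _ s hz₀)
        (by rw [hQs]; exact hμ0) (by rw [hQs]; exact hμ)
      rw [refl_smul hne hs0] at h
      convert h using 3
      rw [hQs]
    intro v hv
    have hv0 : v ≠ 0 := fun e => hv (by rw [e, QuadraticMap.map_zero])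
    -- a singular point not perpendicular to `v`
    obtain ⟨p, hp, hp0, hpv⟩ : ∃ p, Q p = 0 ∧ p ≠ 0 ∧ B v p ≠ 0 := by
      by_cases hvb : B v b ≠ 0
      · exact ⟨b, hQb, fun e => hvb (by rw [e]; simp), hvb⟩
      by_cases hva : B v a ≠ 0
      · exact ⟨a, hQa, fun e => hva (by rw [e]; simp), hva⟩
      push Not at hvb hva
      obtain ⟨w, hw, hwv⟩ := exists_mem_perp hA hB hab (show v ∈ perp₂ B a b from ⟨hva, hvb⟩) hv0 1
      have hw' := mem_perp₂.1 hw
      have hvp : B v (b + w + Q w • a) = 1 := by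
        simp [hvb, hva, comm' hA v w, hwv]
      refine ⟨b + w + Q w • a, ?_, fun e => ?_, by rw [hvp]; exact one_ne_zero⟩
      · simp only [quad_add hpol, quad_smul, hQa, hQb, map_add, LinearMap.add_apply, LinearMap.map_smul, smul_eq_mul,
          comm' hA b w, hw'.1, hw'.2, comm' hA b a, hab]
        linear_combination Q w * CharTwo.two_eq_zero (R := F)
      · rw [e, map_zero] at hvp
        exact zero_ne_one hvp
    obtain ⟨k, hk, c, hc, ek⟩ := exists_map_singular (hA := hA) hpol hQa hQb hab hB h4 hp hp0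
    set k' : OQ Q := ⟨k, siegelPair_le_OQ (hA := hA) hpol hQa hQb hk⟩
    have hk' : k' ∈ K := hk
    set v₁ := ((k'⁻¹ : OQ Q) : V ≃ₗ[F] V) v
    have hv₁ : Q v₁ ≠ 0 := by rw [OQ.map_apply]; exact hv
    have hv₁b : B v₁ b ≠ 0 := by
      intro e
      refine hpv ?_
      rw [← ek, ← (k' : V ≃ₗ[F] V).apply_symm_apply v, ← hpol]
      show polar Q ((k' : V ≃ₗ[F] V) v₁) ((k' : V ≃ₗ[F] V) (c • b)) = 0
      rw [OQ.map_polar, hpol, LinearMap.map_smul, e, smul_zero]
    -- move to the plane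
    set β := B v₁ b with hβ
    set v₂ := β⁻¹ • v₁ with hv₂def
    have hv₂b : B v₂ b = 1 := by
      rw [hv₂def, LinearMap.map_smul, LinearMap.smul_apply, smul_eq_mul, ← hβ, inv_mul_cancel₀ hv₁b]
    have hw := mem_perp₂.1 (proj_mem hA hab v₂)
    set x : OQ Q := sgQ (hA := hA) hpol hQb hw.2
    have hx : x ∈ K := sg_b_mem Q a b hw.2
    have ex : (x : V ≃ₗ[F] V) v₂ = a + (B v₂ a + Q (proj B a b v₂)) • b := by
      have e := decompose hA a b v₂
      rw [hv₂b, one_smul] at e
      have e2 : sg hA b (proj B a b v₂) (Q (proj B a b v₂)) (proj B a b v₂ + a + B v₂ a • b) =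
          a + (B v₂ a + Q (proj B a b v₂)) • b := by
        simp only [sg_apply hA hw.2, map_add, LinearMap.add_apply, LinearMap.map_smul, LinearMap.smul_apply,
          smul_eq_mul, hA b, hA (proj B a b v₂), hab, comm' hA a (proj B a b v₂), comm' hA b (proj B a b v₂),
          hw.1, hw.2]
        match_scalars <;> ring_nf <;> simp [CharTwo.two_eq_zero]
      rw [e] at e2
      exact e2
    have hv₂ : Q v₂ ≠ 0 := by
      rw [hv₂def, quad_smul]
      exact mul_ne_zero (pow_ne_zero 2 (inv_ne_zero hv₁b)) hv₁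
    have hxv : Q ((x : V ≃ₗ[F] V) v₂) ≠ 0 := by rw [OQ.map_apply]; exact hv₂
    have h1 : r₀ * Classical.Quad.refl hxv ∈ K := by
      have hμ : Q (a + (B v₂ a + Q (proj B a b v₂)) • b) ≠ 0 := by rw [← ex]; exact hxv
      have := hplane _ hμ
      convert this using 3
    rw [← refl_conj x hv₂, refl_smul hv₁ (inv_ne_zero hv₁b)] at h1
    have h2 : Classical.Quad.refl hv₁ = k'⁻¹ * Classical.Quad.refl hv * k'⁻¹⁻¹ := by rw [refl_conj]
    rw [h2, inv_inv] at h1
    have key : ∀ g k, k ∈ K → r₀ * (k * g * k⁻¹) ∈ K → r₀ * g ∈ K := fun g k hk h => by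
      have e : r₀ * g = (r₀ * k⁻¹ * r₀) * (r₀ * (k * g * k⁻¹)) * k := by
        have : r₀ * k⁻¹ * r₀ * (r₀ * (k * g * k⁻¹)) * k = r₀ * k⁻¹ * (r₀ * r₀) * k * g * (k⁻¹ * k) := by group
        rw [this, hr2, inv_mul_cancel]
        group
      rw [e]
      exact mul_mem (mul_mem (hnorm _ (inv_mem hk)) h) hk
    exact key _ _ (inv_mem hk') (by rw [inv_inv]; exact key _ _ hx h1)
  suffices hrg : ∀ g ∈ reflGroup Q, g ∈ K ∨ r₀ * g ∈ K by
    refine ⟨r₀, par_refl hQ hne, fun g => ?_⟩
    obtain ⟨k, hk, hkg⟩ := hgen g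
    rcases hrg _ hkg with h | h
    · exact Or.inl ((K.mul_mem_cancel_left hk).1 h)
    · refine Or.inr ?_
      have := mul_mem (hnorm _ (inv_mem hk)) h
      rwa [show r₀ * k⁻¹ * r₀ * (r₀ * (k * g)) = r₀ * k⁻¹ * (r₀ * r₀) * k * g by group, hr2, mul_one,
        inv_mul_cancel_right] at this
  intro g hg
  induction hg using Subgroup.closure_induction with
  | mem x hx =>
    obtain ⟨v, hv, rfl⟩ := hx
    exact Or.inr (hrefl v hv)
  | one => exact Or.inl K.one_mem
  | mul x y _ _ hx hy =>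
    rcases hx with hx | hx <;> rcases hy with hy | hy
    · exact Or.inl (mul_mem hx hy)
    · refine Or.inr ?_
      have := mul_mem (hnorm _ hx) hy
      rwa [mul_assoc (r₀ * x), ← mul_assoc r₀ r₀, hr2, one_mul, mul_assoc] at this
    · exact Or.inr (by rw [← mul_assoc]; exact mul_mem hx hy)
    · refine Or.inl ?_
      have := mul_mem (hnorm _ hx) hy
      rwa [show r₀ * (r₀ * x) * r₀ * (r₀ * y) = (r₀ * r₀) * x * (r₀ * r₀) * y by group, hr2, one_mul, mul_one]
        at this
  | inv x _ hx =>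
    rcases hx with hx | hx
    · exact Or.inl (inv_mem hx)
    · refine Or.inr ?_
      have := hnorm _ (inv_mem hx)
      rwa [mul_inv_rev, show r₀⁻¹ = r₀ from inv_eq_of_mul_eq_one_right hr2, mul_assoc r₀ (x⁻¹ * r₀),
        mul_assoc x⁻¹ r₀, hr2, mul_one] at this

end CfsgLib.Geo.SympTwoOver
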