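/-
The quadratic form is preserved by the whole group.
-/
import Cfsg.Agent.Lib.Geo.SympTwoOver.Form

set_option autoImplicit false

namespace CfsgLib.Geo.SympTwoOver

open LinearMap (BilinForm)
open CfsgLib.Classical.Symp

variable {F : Type*} [Field F] [CharP F 2] [Fintype F] {V : Type*} [AddCommGroup V] [Module F V]
  [FiniteDimensional F V] {B : BilinForm F V} {L : Subgroup (V ≃ₗ[F] V)} {hA : B.IsAlt} {a b : V}
  {Q : QuadraticForm F V}

theorem siegelPair_le (hQaL : ∀ w, B w a = 0 → sg hA a w (Q w) ∈ L) (hQbL : ∀ w, B w b = 0 → sg hA b w (Q w) ∈ L) :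
    siegelPair hA Q a b ≤ L := by
  refine (Subgroup.closure_le _).2 ?_
  rintro g ⟨w, ⟨hw, rfl⟩ | ⟨hw, rfl⟩⟩
  · exact hQaL w hw
  · exact hQbL w hw

theorem Opp.pt_singular (h : Opp hA L a b) (hB : B.Nondegenerate) (h4 : 4 ≤ Module.finrank F V)
    (hpol : ∀ u v, QuadraticMap.polar (⇑Q) u v = B u v) (hQa : Q a = 0) (hQb : Q b = 0)
    (hQaL : ∀ w, B w a = 0 → sg hA a w (Q w) ∈ L) {p : V} (hp : Pt hA L p) : Q p = 0 := by
  by_cases hpa : B p a = 0
  · by_cases hps : p ∈ Submodule.span F {a}
    · obtain ⟨c, rfl⟩ := Submodule.mem_span_singleton.1 hps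
      rw [quad_smul, hQa, mul_zero]
    · have h1 := h.line a p h.pa hp hpa hps 1
      rw [one_smul] at h1
      exact h.pa.sfree.unique hpa (hQaL p hpa) h1
  · set β := B p a with hβ
    set p' := β⁻¹ • p with hp'
    have hp'a : B p' a = 1 := by rw [hp', LinearMap.map_smul, LinearMap.smul_apply, smul_eq_mul, ← hβ,
      inv_mul_cancel₀ hpa]
    have hw := mem_perp₂.1 (proj_mem hA h.hab p')
    set x := sg hA a (proj B a b p') (Q (proj B a b p'))
    have hx : x ∈ L := hQaL _ hw.1
    have he : x p' = b + (B p' b + Q (proj B a b p')) • a := by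
      have e := decompose hA a b p'
      rw [hp'a, one_smul] at e
      conv_lhs => rw [← e]
      simp only [x, sg_apply hA hw.1, map_add, LinearMap.add_apply, LinearMap.map_smul, LinearMap.smul_apply,
        smul_eq_mul, hA a, hA (proj B a b p'), hw.1, h.hba, comm' hA b (proj B a b p'), comm' hA a (proj B a b p'),
        hw.2]
      match_scalars <;> ring_nf <;> simp [CharTwo.two_eq_zero]
    have hpt := (hp.smul (inv_ne_zero hpa)).map h.le hx
    rw [← hp', he] at hpt
    have h0 := h.only_b hB h4 hpt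
    have h1 := sg_preserves hpol hQa hw.1 p' (hA := hA)
    change Q (x p') = Q p' at h1
    rw [he, h0, zero_smul, add_zero, hQb, hp', quad_smul] at h1
    exact (mul_eq_zero.1 h1.symm).resolve_left (pow_ne_zero 2 (inv_ne_zero hpa))

theorem Opp.preserves (h : Opp hA L a b) (hB : B.Nondegenerate) (h4 : 4 ≤ Module.finrank F V)
    (hpol : ∀ u v, QuadraticMap.polar (⇑Q) u v = B u v) (hQa : Q a = 0) (hQb : Q b = 0)
    (hQaL : ∀ w, B w a = 0 → sg hA a w (Q w) ∈ L) (hQbL : ∀ w, B w b = 0 → sg hA b w (Q w) ∈ L)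
    {g : V ≃ₗ[F] V} (hg : g ∈ L) (v : V) : Q (g v) = Q v := by
  have hsing : ∀ p, Q p = 0 → Q (g p) = 0 := by
    intro p hp
    rcases eq_or_ne p 0 with rfl | hp0
    · rw [map_zero, QuadraticMap.map_zero]
    obtain ⟨k, hk, c, hc, e⟩ := exists_map_singular (hA := hA) hpol hQa hQb h.hab hB h4 hp hp0
    have : Pt hA L p := e ▸ (h.pb.smul hc).map h.le (siegelPair_le hQaL hQbL hk)
    exact h.pt_singular hB h4 hpol hQa hQb hQaL (this.map h.le hg)
  have hg' : ∀ x y, B (g x) (g y) = B x y := h.le hg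
  let d : V → F := fun u => Q (g u) + Q u
  have hadd : ∀ u u', d (u + u') = d u + d u' := fun u u' => by
    simp only [d, map_add, quad_add hpol, hg']
    linear_combination (B u u') * CharTwo.two_eq_zero (R := F)
  have hsmul : ∀ (c : F) u, d (c • u) = c ^ 2 * d u := fun c u => by
    simp only [d, LinearEquiv.map_smul, quad_smul]
    ring
  have hz : ∀ p, Q p = 0 → d p = 0 := fun p hp => by simp only [d, hsing p hp, hp, add_zero]
  have hw : ∀ w ∈ perp₂ B a b, d w = 0 := by
    intro w hw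
    rw [mem_perp₂] at hw
    have hs : Q (b + w + Q w • a) = 0 := by
      simp only [quad_add hpol, quad_smul, hQa, hQb, map_add, LinearMap.add_apply, LinearMap.map_smul, smul_eq_mul,
        h.hba, comm' hA b w, hw.1, hw.2]
      linear_combination Q w * CharTwo.two_eq_zero (R := F)
    have e := hz _ hs
    rw [hadd, hadd, hsmul, hz b hQb, hz a hQa, mul_zero, add_zero, zero_add] at e
    exact e
  have e : d v = 0 := by
    rw [← decompose hA a b v, hadd, hadd, hsmul, hsmul, hz a hQa, hz b hQb, hw _ (proj_mem hA h.hab v)]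
    simp
  exact CharTwo.add_eq_zero.1 e

end CfsgLib.Geo.SympTwoOver
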