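/-
A transvection at a centre of a full Siegel group forces all transvections.
-/
import Cfsg.Agent.Lib.Geo.SympTwoOver.Perp

set_option autoImplicit false

namespace CfsgLib.Geo.SympTwoOver

open LinearMap (BilinForm)
open CfsgLib.Classical.Symp

variable {F : Type*} [Field F] [CharP F 2] [Fintype F] {V : Type*} [AddCommGroup V] [Module F V]
  [FiniteDimensional F V] {B : BilinForm F V} {L : Subgroup (V ≃ₗ[F] V)} {hA : B.IsAlt}

omit [FiniteDimensional F V] in
theorem exists_sqrt (c : F) : ∃ s : F, s ^ 2 = c :=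
  (Finite.injective_iff_surjective.1 fun _ _ e => CharTwo.sq_injective e) c

omit [FiniteDimensional F V] in
/-- All Siegel elements at a centre with all transvections. -/
theorem sg_mem_of_full {a : V} (hF : Full hA L a) (hS : ∀ c, sg hA a 0 c ∈ L) {w : V} (hw : B w a = 0) (c : F) :
    sg hA a w c ∈ L := by
  obtain ⟨c', hc'⟩ := hF w hw
  have h := L.mul_mem hc' (hS (c' + c))
  rwa [sg_mul hA hw (by simp), add_zero, map_zero, LinearMap.zero_apply, add_zero, ← add_assoc,
    CharTwo.add_self_eq_zero, zero_add] at h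

theorem full_constants (hL : L ≤ Sp B) (hB : B.Nondegenerate) (h4 : 4 ≤ Module.finrank F V) {a : V}
    (hFa : Full hA L a) (h1 : sg hA a 0 1 ∈ L) (hirr : ∃ g ∈ L, B a (g a) ≠ 0) (c : F) : sg hA a 0 c ∈ L := by
  classical
  obtain ⟨g, hg, hβ⟩ := hirr
  have ha : a ≠ 0 := fun e => hβ (by rw [e]; simp)
  set v := g a with hv
  set β := B a v with hβdef
  set b := β⁻¹ • v with hb
  have hab : B a b = 1 := by rw [hb, LinearMap.map_smul, smul_eq_mul, ← hβdef, inv_mul_cancel₀ hβ]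
  obtain ⟨w, hw, hw0, hwL⟩ := exists_vector hB h4 hab hFa (β ^ 2)⁻¹ (Or.inr ⟨1, one_ne_zero, h1⟩)
  have hw' := mem_perp₂.1 hw
  have hwv : B w v = 0 := by
    have := hw'.2
    rw [hb, LinearMap.map_smul, smul_eq_mul] at this
    exact (mul_eq_zero.1 this).resolve_left (inv_ne_zero hβ)
  have ev : sg hA a w (β ^ 2)⁻¹ v = v + β • w + β⁻¹ • a := by
    rw [sg_apply hA hw'.1, comm' hA v a, ← hβdef, comm' hA v w, hwv]
    match_scalars <;> field_simp <;> ring
  have hmem : sg hA (sg hA a w (β ^ 2)⁻¹ v) 0 1 ∈ L := by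
    rw [hv, sg_zero_map hL hwL, sg_zero_map hL hg]
    exact h1
  set t := sg hA (sg hA a w (β ^ 2)⁻¹ v) 0 1 with ht
  set g' := t * g
  have hg' : g' ∈ L := L.mul_mem hmem hg
  set d := β • w + β⁻¹ • a with hd
  have ed : g' a = d := by
    show t v = d
    rw [ht, ev, sg_apply hA (by simp), hd]
    simp only [map_add, LinearMap.map_smul, smul_eq_mul, comm' hA v a, ← hβdef, comm' hA v w, hwv, hA v, map_zero]
    match_scalars <;> field_simp <;> ring_nf <;> simp [CharTwo.two_eq_zero]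
  have hda : B d a = 0 := by simp [hd, hw'.1, hA a]
  have had : B a d = 0 := by rw [comm' hA]; exact hda
  have hdn : d ∉ Submodule.span F {a} := by
    intro hm
    obtain ⟨k, hk⟩ := Submodule.mem_span_singleton.1 hm
    have e := congrArg (fun x => B x b) hk
    simp only [hd, map_add, LinearMap.add_apply, LinearMap.map_smul, LinearMap.smul_apply, smul_eq_mul, hab,
      hw'.2, mul_one, mul_zero, zero_add] at e
    rw [hd, e, right_eq_add] at hk
    exact hw0 ((smul_eq_zero.1 hk).resolve_left hβ)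
  have hd0 : d ≠ 0 := fun e => hdn (e ▸ zero_mem _)
  have had' : a ∉ Submodule.span F {d} := by
    intro h
    obtain ⟨k, hk⟩ := Submodule.mem_span_singleton.1 h
    have hk0 : k ≠ 0 := fun e => ha (by rw [← hk, e, zero_smul])
    exact hdn (Submodule.mem_span_singleton.2 ⟨k⁻¹, by rw [← hk, inv_smul_smul₀ hk0]⟩)
  have hFd : Full hA L d := ed ▸ hFa.map hL hg'
  have hd1 : sg hA d 0 1 ∈ L := ed ▸ (sg_zero_map hL hg').2 h1
  have hl : ∀ s : F, sg hA a (s • d) (s ^ 2) ∈ L := fun s => by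
    have := line_key hB ha hdn hda hFa (r := 0) (C := 1) (by rwa [zero_smul]) s
    rwa [mul_one, mul_one] at this
  have hr : ∀ r : F, sg hA d (r • a) (r ^ 2) ∈ L := fun r => by
    have := line_key hB hd0 had' had hFd (r := 0) (C := 1) (by rwa [zero_smul]) r
    rwa [mul_one, mul_one] at this
  by_cases hbig : ∃ r : F, r ≠ 0 ∧ r ≠ 1
  · obtain ⟨r, hr0, hr1⟩ := hbig
    have hne : r ^ 2 * (1 + r ^ 2) ≠ 0 := by
      refine mul_ne_zero (pow_ne_zero 2 hr0) fun e => hr1 (CharTwo.sq_injective ?_)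
      show r ^ 2 = 1 ^ 2
      rw [one_pow]
      exact (CharTwo.add_eq_zero.1 e).symm
    obtain ⟨s, hs⟩ := exists_sqrt (c / (r ^ 2 * (1 + r ^ 2)))
    have h2 := line_key hB ha hdn hda hFa (hr r) s
    have := L.mul_mem h2 (hl (s * r ^ 2))
    rwa [sg_mul hA (by simp [hda]) (by simp [hda]), add_self' F, LinearMap.map_smul, LinearMap.map_smul,
      LinearMap.smul_apply, hA d, smul_zero, smul_zero, add_zero,
      show s ^ 2 * r ^ 2 + (s * r ^ 2) ^ 2 = c by
        rw [mul_pow, hs]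
        have := (mul_ne_zero_iff.1 hne).2
        field_simp] at this
  · push Not at hbig
    rcases eq_or_ne c 0 with rfl | hc
    · rw [sg_zero]
      exact L.one_mem
    · rwa [hbig c hc]

/-- All transvections lie in the group. -/
theorem all_transvections (hL : L ≤ Sp B) (hB : B.Nondegenerate) (h4 : 4 ≤ Module.finrank F V) {a : V}
    (hFa : Full hA L a) {c₀ : F} (hc₀ : c₀ ≠ 0) (h₀ : sg hA a 0 c₀ ∈ L) (hirr : ∃ g ∈ L, B a (g a) ≠ 0)
    (p : V) (c : F) : sg hA p 0 c ∈ L := by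
  obtain ⟨σ, hσ⟩ := exists_sqrt c₀
  have hσ0 : σ ≠ 0 := fun e => hc₀ (by rw [← hσ, e, zero_pow two_ne_zero])
  obtain ⟨g, hg, hβ'⟩ := hirr
  have hS : ∀ c, sg hA (σ • a) 0 c ∈ L := full_constants hL hB h4 (hFa.smul hσ0)
    (by rw [sg_smul_centre hA (by simp), smul_zero, mul_one, hσ]; exact h₀)
    ⟨g, hg, by simp [hσ0, hβ']⟩
  have hSa : ∀ c, sg hA a 0 c ∈ L := fun c => by
    have := hS (c / σ ^ 2)
    rwa [sg_smul_centre hA (by simp), smul_zero, mul_div_cancel₀ _ (pow_ne_zero 2 hσ0)] at this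
  set b := (B a (g a))⁻¹ • g a with hb
  have hab : B a b = 1 := by rw [hb, LinearMap.map_smul, smul_eq_mul, inv_mul_cancel₀ hβ']
  have hPsmul : ∀ {x : V} (k : F), (∀ c, sg hA x 0 c ∈ L) → ∀ c, sg hA (k • x) 0 c ∈ L := fun k hx c => by
    rw [sg_smul_centre hA (by simp), smul_zero]
    exact hx _
  have hPb : ∀ c, sg hA b 0 c ∈ L := hPsmul _ fun c => (sg_zero_map hL hg).2 (hSa c)
  have hFb : Full hA L b := (hFa.map hL hg).smul (inv_ne_zero hβ')
  -- centres not perpendicular to a full centre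
  have step : ∀ {x y : V}, Full hA L x → (∀ c, sg hA x 0 c ∈ L) → B x y = 1 → (∀ c, sg hA y 0 c ∈ L) →
      ∀ p, B p x = 1 → ∃ k ∈ L, k y = p := by
    intro x y hFx hSx hxy _ p hp
    have hyx : B y x = 1 := by rw [comm' hA]; exact hxy
    have hw : B (p + y) x = 0 := by rw [map_add, LinearMap.add_apply, hp, hyx, CharTwo.add_self_eq_zero]
    refine ⟨sg hA x (p + y) (B y (p + y)), sg_mem_of_full hFx hSx hw _, ?_⟩
    rw [sg_apply hA hw, hyx, mul_one, CharTwo.add_self_eq_zero, zero_smul, add_zero, one_smul, add_left_comm,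
      add_self' F, add_zero]
  have hnp : ∀ {x y : V}, Full hA L x → (∀ c, sg hA x 0 c ∈ L) → B x y = 1 → (∀ c, sg hA y 0 c ∈ L) →
      ∀ p, B p x ≠ 0 → ∀ c, sg hA p 0 c ∈ L := by
    intro x y hFx hSx hxy hSy p hp c
    obtain ⟨k, hk, e⟩ := step hFx hSx hxy hSy ((B p x)⁻¹ • p)
      (by rw [LinearMap.map_smul, LinearMap.smul_apply, smul_eq_mul, inv_mul_cancel₀ hp])
    have h := hPsmul (B p x) (x := (B p x)⁻¹ • p) (fun c => e ▸ (sg_zero_map hL hk).2 (hSy c)) c
    rwa [smul_inv_smul₀ hp] at h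
  rcases eq_or_ne p 0 with rfl | hp0
  · rw [show sg hA (0 : V) 0 c = 1 from LinearEquiv.ext fun u => by simp [sg_apply]]
    exact L.one_mem
  by_cases hpa : B p a = 0
  swap
  · exact hnp hFa hSa hab hPb p hpa c
  -- a centre `x` not perpendicular to `p` and paired with `a`
  obtain ⟨f, hf⟩ := Submodule.exists_dual_map_eq_bot_of_notMem (show p ∉ (⊥ : Submodule F V) by simpa using hp0)
    inferInstance
  obtain ⟨u, hu⟩ := exists_polar_eq hB f
  obtain ⟨x, hxa, hxp⟩ : ∃ x, B x a = 1 ∧ B p x ≠ 0 := by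
    by_cases hua : B u a = 0
    · by_cases hpb : B p b = 0
      · refine ⟨b + u, by rw [map_add, LinearMap.add_apply, comm' hA b a, hab, hua, add_zero], ?_⟩
        rw [map_add, hpb, zero_add, comm' hA, hu]
        exact hf.1
      · exact ⟨b, by rw [comm' hA]; exact hab, hpb⟩
    · refine ⟨(B u a)⁻¹ • u, by rw [LinearMap.map_smul, LinearMap.smul_apply, smul_eq_mul, inv_mul_cancel₀ hua],
        ?_⟩
      rw [LinearMap.map_smul, smul_eq_mul, comm' hA p u, hu p]
      exact mul_ne_zero (inv_ne_zero hua) hf.1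
  obtain ⟨k, hk, e⟩ := step hFa hSa hab hPb x hxa
  exact hnp (e ▸ hFb.map hL hk) (fun c => e ▸ (sg_zero_map hL hk).2 (hPb c)) hxa hSa p hxp c

end CfsgLib.Geo.SympTwoOver
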