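/-
Irreducible subgroups of the symplectic group in characteristic two containing a full Siegel group.
-/
import Cfsg.Agent.Lib.Geo.SympTwoOver.Kernel
import Cfsg.Agent.Lib.Geo.SympTwoOver.Preserve
import Cfsg.Agent.Lib.Geo.SympTwoOver.Transvections

set_option autoImplicit false

namespace CfsgLib.Geo.SympTwoOver

open LinearMap (BilinForm)
open CfsgLib.Classical.Symp CfsgLib.Classical.Quad CfsgLib.Known.OmegaCriterion

variable {F : Type*} [Field F] [CharP F 2] [Fintype F] {V : Type*} [AddCommGroup V] [Module F V]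
  [FiniteDimensional F V] {B : BilinForm F V} {L : Subgroup (V ≃ₗ[F] V)} {hA : B.IsAlt} {a : V}

omit [CharP F 2] [Fintype F] [FiniteDimensional F V] in
/-- Some image of a non-zero vector is not perpendicular to it. -/
theorem exists_image_not_perp (hB : B.Nondegenerate) (ha : a ≠ 0)
    (hirr : ∀ W : Submodule F V, (∀ g ∈ L, ∀ w ∈ W, g w ∈ W) → W = ⊥ ∨ W = ⊤) : ∃ g ∈ L, B a (g a) ≠ 0 := by
  by_contra! hc
  set W := Submodule.span F {v | ∃ g ∈ L, g a = v}
  rcases hirr W (fun g hg w hw => by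
    induction hw using Submodule.span_induction with
    | mem v hv =>
      obtain ⟨g', hg', rfl⟩ := hv
      exact Submodule.subset_span ⟨g * g', L.mul_mem hg hg', rfl⟩
    | zero => simp
    | add x y _ _ hx hy => rw [map_add]; exact add_mem hx hy
    | smul c x _ hx => rw [LinearEquiv.map_smul]; exact Submodule.smul_mem _ c hx) with h | h
  · exact ha ((Submodule.mem_bot F).1 (h ▸ Submodule.subset_span ⟨1, L.one_mem, rfl⟩))
  · refine ha (hB.1 a fun v => ?_)
    have hv : v ∈ W := h ▸ Submodule.mem_top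
    induction hv using Submodule.span_induction with
    | mem x hx =>
      obtain ⟨g, hg, rfl⟩ := hx
      exact hc g hg
    | zero => simp
    | add x y _ _ hx hy => simp [hx, hy]
    | smul c x _ hx => simp [hx]

omit [Fintype F] in
/-- Two perpendicular vectors leave room for a hyperbolic pair in dimension at least five. -/
theorem exists_pair_perp (hA : B.IsAlt) (hB : B.Nondegenerate) (h5 : 5 ≤ Module.finrank F V) (p p' : V) :
    ∃ u v, B u p = 0 ∧ B u p' = 0 ∧ B v p = 0 ∧ B v p' = 0 ∧ B u v = 1 := by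
  classical
  have hu : ∃ u ∈ perp₂ B p p', u ∉ Submodule.span F ({p, p'} : Set V) := by
    by_contra! hc
    have h1 := Submodule.finrank_mono (show perp₂ B p p' ≤ Submodule.span F ({p, p'} : Set V) from hc)
    have h2 : Module.finrank F (Submodule.span F ({p, p'} : Set V)) ≤ 2 := by
      refine (finrank_span_le_card _).trans ?_
      simp only [Set.toFinset_insert, Set.toFinset_singleton]
      exact Finset.card_le_two
    have := finrank_perp₂ (B := B) p p'
    omega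
  obtain ⟨u, hu, hus⟩ := hu
  obtain ⟨f, hf, hfs⟩ := Submodule.exists_dual_map_eq_bot_of_notMem hus inferInstance
  have hf0 : ∀ x ∈ Submodule.span F ({p, p'} : Set V), f x = 0 := fun x hx => by
    have : f x ∈ (Submodule.span F ({p, p'} : Set V)).map f := ⟨x, hx, rfl⟩
    rwa [hfs, Submodule.mem_bot] at this
  obtain ⟨v, hv⟩ := exists_polar_eq hB ((f u)⁻¹ • f)
  refine ⟨u, v, hu.1, hu.2, ?_, ?_, ?_⟩
  · rw [hv, LinearMap.smul_apply, hf0 p (Submodule.subset_span (by simp)), smul_zero]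
  · rw [hv, LinearMap.smul_apply, hf0 p' (Submodule.subset_span (by simp)), smul_zero]
  · rw [comm' hA, hv, LinearMap.smul_apply, smul_eq_mul, inv_mul_cancel₀ hf]

omit [Fintype F] in
theorem lineHyp_of (hB : B.Nondegenerate) (hex : (∃ x : F, x ≠ 0 ∧ x ≠ 1) ∨ 5 ≤ Module.finrank F V) :
    LineHyp hA L := fun p p' hp hp' h hs t => by
  refine line_zero hB hp.ne_zero hs h hp.full hp.sfree hp'.full hp'.sfree ?_ t
  exact hex.imp id fun h5 => exists_pair_perp hA hB h5 p p'

/-- With all transvections, the whole symplectic group. -/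
theorem eq_Sp_of_all (hL : L ≤ Sp B) (hB : B.Nondegenerate) (h : ∀ p c, sg hA p 0 c ∈ L) : L = Sp B := by
  refine le_antisymm hL fun g hg => ?_
  have hm : (⟨g, hg⟩ : Sp B) ∈ trGroup hA (⊤ : Submodule F V) := by
    rw [trGroup_eq_top hA hB]
    exact Subgroup.mem_top _
  have hle : trGroup hA (⊤ : Submodule F V) ≤ L.subgroupOf (Sp B) := by
    refine (Subgroup.closure_le _).2 ?_
    rintro x ⟨v, -, c, rfl⟩
    show ((tr hA v c : Sp B) : V ≃ₗ[F] V) ∈ L
    rw [tr_eq_sg]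
    exact h v c
  exact Subgroup.mem_subgroupOf.1 (hle hm)

/-- With a transvection at the centre, the whole symplectic group. -/
theorem eq_Sp_of_transvection (hL : L ≤ Sp B) (hB : B.Nondegenerate) (h4 : 4 ≤ Module.finrank F V)
    (ha : a ≠ 0) (hF : Full hA L a) (hS : ¬ SFree hA L a)
    (hirr : ∀ W : Submodule F V, (∀ g ∈ L, ∀ w ∈ W, g w ∈ W) → W = ⊥ ∨ W = ⊤) : L = Sp B := by
  simp only [SFree, not_forall] at hS
  obtain ⟨c₀, h₀, hc₀⟩ := hS
  exact eq_Sp_of_all hL hB (all_transvections hL hB h4 hF hc₀ h₀ (exists_image_not_perp hB ha hirr))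

/-- The orthogonal alternative. -/
theorem orth_case {b : V} {Q : QuadraticForm F V} (h : Opp hA L a b) (hB : B.Nondegenerate)
    (h4 : 4 ≤ Module.finrank F V) (hpol : ∀ u v, QuadraticMap.polar (⇑Q) u v = B u v) (hQa : Q a = 0) (hQb : Q b = 0)
    (hQaL : ∀ w, B w a = 0 → sg hA a w (Q w) ∈ L) (hQbL : ∀ w, B w b = 0 → sg hA b w (Q w) ∈ L)
    (hgen : ∀ g : OQ Q, ∃ k ∈ pairQ hA Q a b, k * g ∈ reflGroup Q) :
    L = OQ Q ∨ ∀ g, g ∈ L ↔ ∃ hg : g ∈ OQ Q, par (⟨g, hg⟩ : OQ Q) = 0 := by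
  have hQ := polar_nondeg hpol hB
  have hLO : L ≤ OQ Q := fun x hx => mem_OQ.2 (h.preserves hB h4 hpol hQa hQb hQaL hQbL hx)
  have hKL : siegelPair hA Q a b ≤ L := siegelPair_le hQaL hQbL
  obtain ⟨r, hr, hcases⟩ := mem_pairQ_or (hA := hA) hpol hQa hQb h.hab hB h4 hgen
  by_cases hodd : ∃ x : OQ Q, (x : V ≃ₗ[F] V) ∈ L ∧ par x ≠ 0
  · obtain ⟨x, hx, hxp⟩ := hodd
    refine Or.inl (le_antisymm hLO fun y hy => ?_)
    have hmem : ∀ z : OQ Q, par z = 0 → (z : V ≃ₗ[F] V) ∈ L := fun z hz => by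
      rcases hcases z with h' | h'
      · exact hKL h'
      · have := par_pairQ hpol hQa hQb h.hab hB h4 h'
        rw [par_mul' hQ (by omega), hr, hz, add_zero] at this
        exact absurd this one_ne_zero
    by_cases hy0 : par (⟨y, hy⟩ : OQ Q) = 0
    · exact hmem _ hy0
    · have : par (x⁻¹ * ⟨y, hy⟩ : OQ Q) = 0 := by
        have h1 : par x⁻¹ + par x = 0 := by rw [← par_mul' hQ (by omega), inv_mul_cancel, par_one hQ]
        have key : ∀ s t u : ZMod 2, s + t = 0 → t ≠ 0 → u ≠ 0 → s + u = 0 := by decide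
        rw [par_mul' hQ (by omega)]
        exact key _ _ _ h1 hxp hy0
      have h2 := L.mul_mem hx (hmem _ this)
      simpa using h2
  · push Not at hodd
    refine Or.inr fun y => ⟨fun hy => ⟨hLO hy, hodd ⟨y, hLO hy⟩ hy⟩, ?_⟩
    rintro ⟨hy, hp⟩
    rcases hcases ⟨y, hy⟩ with h' | h'
    · exact hKL h'
    · have := par_pairQ hpol hQa hQb h.hab hB h4 h'
      rw [par_mul' hQ (by omega), hr, hp, add_zero] at this
      exact absurd this one_ne_zero

/-- The overgroups of a Siegel group. -/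
theorem overgroup (hL : L ≤ Sp B) (hB : B.Nondegenerate) (h4 : 4 ≤ Module.finrank F V) (ha : a ≠ 0)
    (hF : Full hA L a) (hirr : ∀ W : Submodule F V, (∀ g ∈ L, ∀ w ∈ W, g w ∈ W) → W = ⊥ ∨ W = ⊤)
    (hex : (∃ x : F, x ≠ 0 ∧ x ≠ 1) ∨ 5 ≤ Module.finrank F V) :
    L = Sp B ∨ ∃ Q : QuadraticForm F V, (∀ u v, QuadraticMap.polar (⇑Q) u v = B u v) ∧
      (L = OQ Q ∨ ∀ g, g ∈ L ↔ ∃ hg : g ∈ OQ Q, par (⟨g, hg⟩ : OQ Q) = 0) := by
  by_cases hS : SFree hA L a
  swap
  · exact Or.inl (eq_Sp_of_transvection hL hB h4 ha hF hS hirr)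
  refine Or.inr ?_
  obtain ⟨g, hg, hβ⟩ := exists_image_not_perp hB ha hirr
  have hpa : Pt hA L a := ⟨ha, hF, hS⟩
  have h : Opp hA L a ((B a (g a))⁻¹ • g a) := ⟨hL, lineHyp_of hB hex, hpa,
    (hpa.map hL hg).smul (inv_ne_zero hβ), by rw [LinearMap.map_smul, smul_eq_mul, inv_mul_cancel₀ hβ]⟩
  obtain ⟨Q, hpol, hQa, hQb, hQaL, hQbL⟩ := h.exists_form hB h4
  have hR : reflGroup Q = ⊤ := reflGroup_eq_top (polar_nondeg hpol hB) (hex.imp id fun h5 => by omega)
  exact ⟨Q, hpol, orth_case h hB h4 hpol hQa hQb hQaL hQbL fun x => ⟨1, one_mem _, hR ▸ Subgroup.mem_top _⟩⟩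

end CfsgLib.Geo.SympTwoOver
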