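/-
Subgroups of index at most six of the symmetric group of degree six.
-/
import Mathlib

set_option autoImplicit false

namespace CfsgLib.Geo.SympTwoOver

open Equiv

theorem alternating_le_of_normal {N : Subgroup (Perm (Fin 6))} [hN : N.Normal] (h : 2 < Nat.card N) :
    alternatingGroup (Fin 6) ≤ N := by
  haveI : IsSimpleGroup (alternatingGroup (Fin 6)) := alternatingGroup.isSimpleGroup (by simp)
  rcases (inferInstance : (N.subgroupOf (alternatingGroup (Fin 6))).Normal).eq_bot_or_eq_top with hb | hb
  · exfalso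
    have hd : Function.Injective fun x : N => Perm.sign (x : Perm (Fin 6)) := fun x y e => by
      have hm : (x : Perm (Fin 6))⁻¹ * y ∈ alternatingGroup (Fin 6) := by
        rw [Perm.mem_alternatingGroup, map_mul, map_inv]
        simp only at e
        rw [e, inv_mul_cancel]
      have : (⟨_, hm⟩ : alternatingGroup (Fin 6)) ∈ N.subgroupOf (alternatingGroup (Fin 6)) :=
        Subgroup.mem_subgroupOf.2 (N.mul_mem (N.inv_mem x.2) y.2)
      rw [hb, Subgroup.mem_bot] at this
      exact Subtype.ext (inv_mul_eq_one.1 (congrArg Subtype.val this))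
    have := Nat.card_le_card_of_injective _ hd
    simp at this
    omega
  · exact Subgroup.subgroupOf_eq_top.1 hb

theorem six_subgroups (H : Subgroup (Perm (Fin 6))) (h : 104 ≤ Nat.card H) (hne : H ≠ ⊤) :
    Nonempty (H ≃* alternatingGroup (Fin 6)) ∨ Nonempty (H ≃* Perm (Fin 5)) := by
  classical
  have htot := H.index_mul_card
  rw [show Nat.card (Perm (Fin 6)) = 720 by rw [Nat.card_perm, Nat.card_fin]; rfl] at htot
  have hk1 : H.index ≠ 1 := fun e => hne (Subgroup.index_eq_one.1 e)
  have hk6 : H.index ≤ 6 := by nlinarith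
  set φ := MulAction.toPermHom (Perm (Fin 6)) (Perm (Fin 6) ⧸ H)
  have hker : φ.ker ≤ H := by
    intro g hg
    have e := congrArg (fun s : Perm (Perm (Fin 6) ⧸ H) => s (QuotientGroup.mk 1)) (MonoidHom.mem_ker.1 hg)
    have e' : (QuotientGroup.mk (g * 1) : Perm (Fin 6) ⧸ H) = QuotientGroup.mk 1 := e
    rw [QuotientGroup.eq, mul_one, mul_one] at e'
    exact (inv_mem_iff (H := H)).1 e'
  have hA : 2 < Nat.card φ.ker → Nonempty (H ≃* alternatingGroup (Fin 6)) := fun hc => by
    have hle := (alternating_le_of_normal hc).trans hker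
    have h2 := Subgroup.index_dvd_of_le hle
    rw [alternatingGroup.index_eq_two] at h2
    have : H.index = 2 := by
      rcases (Nat.dvd_prime Nat.prime_two).1 h2 with e | e
      · exact absurd e hk1
      · exact e
    exact ⟨MulEquiv.subgroupCongr (Perm.eq_alternatingGroup_of_index_eq_two this)⟩
  by_cases hc : 2 < Nat.card φ.ker
  · exact Or.inl (hA hc)
  refine Or.inr ?_
  -- the action on the cosets is faithful
  have hbot : φ.ker = ⊥ := by
    by_contra hne'
    obtain ⟨z, hz, hz1⟩ := (Subgroup.bot_or_exists_ne_one φ.ker).resolve_left hne'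
    have hcen : ∀ g, g * z = z * g := by
      intro g
      by_contra hg
      have hz' : g * z * g⁻¹ ∈ φ.ker := (inferInstance : φ.ker.Normal).conj_mem z hz g
      have h3 : ({1, z, g * z * g⁻¹} : Finset (Perm (Fin 6))).card = 3 := Finset.card_eq_three.2
        ⟨1, z, g * z * g⁻¹, Ne.symm hz1, fun e => hz1 (conj_eq_one_iff.1 e.symm),
          fun e => hg (mul_inv_eq_iff_eq_mul.1 e.symm), rfl⟩
      have hsub : (({1, z, g * z * g⁻¹} : Finset (Perm (Fin 6))) : Set (Perm (Fin 6))) ⊆ φ.ker := by
        intro x hx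
        simp only [Finset.coe_insert, Finset.coe_singleton, Set.mem_insert_iff, Set.mem_singleton_iff] at hx
        rcases hx with rfl | rfl | rfl
        · exact one_mem _
        · exact hz
        · exact hz'
      have h4 := Set.ncard_le_ncard hsub (Set.toFinite _)
      rw [Set.ncard_coe_finset, h3] at h4
      exact hc (show 2 < Nat.card φ.ker from h4)
    refine hz1 (Perm.ext fun a => ?_)
    by_contra ha
    obtain ⟨c, -, hcm⟩ := Finset.exists_mem_notMem_of_card_lt_card (s := ({a, z a} : Finset (Fin 6)))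
      (t := Finset.univ) (lt_of_le_of_lt Finset.card_le_two (by simp))
    simp only [Finset.mem_insert, Finset.mem_singleton, not_or] at hcm
    have e := congrArg (fun s : Perm (Fin 6) => s a) (hcen (Equiv.swap (z a) c))
    simp only [Perm.mul_apply, Equiv.swap_apply_left] at e
    rw [Equiv.swap_apply_of_ne_of_ne (by simpa [eq_comm] using ha) (Ne.symm hcm.1)] at e
    exact hcm.2 e
  have hinj : Function.Injective φ := (MonoidHom.ker_eq_bot_iff φ).1 hbot
  have h6 : H.index = 6 := by
    have := Nat.card_le_card_of_injective φ hinj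
    rw [Nat.card_perm, Nat.card_perm, Nat.card_fin] at this
    by_contra hne6
    have := Nat.factorial_le (show H.index ≤ 5 by omega)
    rw [← Subgroup.index_eq_card] at *
    have e6 : Nat.factorial 6 = 720 := rfl
    have e5 : Nat.factorial 5 = 120 := rfl
    omega
  have hbij : Function.Bijective φ := by
    refine (Nat.bijective_iff_injective_and_card φ).2 ⟨hinj, ?_⟩
    rw [Nat.card_perm, Nat.card_perm, Nat.card_fin, show Nat.card (Perm (Fin 6) ⧸ H) = H.index from rfl, h6]
  set x₀ : Perm (Fin 6) ⧸ H := QuotientGroup.mk 1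
  let T : Subgroup (Perm (Perm (Fin 6) ⧸ H)) := MulAction.stabilizer _ x₀
  have hHT : H.map φ = T := by
    ext s
    obtain ⟨g, rfl⟩ := hbij.2 s
    rw [Subgroup.mem_map_iff_mem hinj]
    show g ∈ H ↔ φ g • x₀ = x₀
    show g ∈ H ↔ (QuotientGroup.mk (g * 1) : Perm (Fin 6) ⧸ H) = QuotientGroup.mk 1
    rw [QuotientGroup.eq, mul_one, mul_one, inv_mem_iff]
  let ψ : Perm {y : Perm (Fin 6) ⧸ H // y ≠ x₀} →* T :=
    (Perm.ofSubtype).codRestrict T fun s => Perm.ofSubtype_apply_of_not_mem s (by simp)
  have hψ : Function.Injective ψ := fun s s' e => Perm.ofSubtype_injective (congrArg Subtype.val e)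
  have hcardY : Nat.card {y : Perm (Fin 6) ⧸ H // y ≠ x₀} = 5 := by
    rw [Nat.card_eq_fintype_card, Fintype.card_subtype_compl, Fintype.card_subtype_eq,
      ← Nat.card_eq_fintype_card, show Nat.card (Perm (Fin 6) ⧸ H) = H.index from rfl, h6]
  have hcT : Nat.card T = 120 := by
    rw [← hHT, Subgroup.card_map_of_injective hinj]
    rw [h6] at htot
    omega
  have hψb : Function.Bijective ψ := (Nat.bijective_iff_injective_and_card ψ).2 ⟨hψ, by
    rw [Nat.card_perm, hcardY, hcT]; rfl⟩
  exact ⟨((H.equivMapOfInjective φ hinj).trans (MulEquiv.subgroupCongr hHT)).trans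
    ((MulEquiv.ofBijective ψ hψb).symm.trans ((Finite.equivFinOfCardEq hcardY).permCongrHom))⟩

end CfsgLib.Geo.SympTwoOver
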