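/-
Four dimensions over two elements, two centres with constant one on their line: the group has at least 104 elements.
-/
import Cfsg.Agent.Lib.Geo.SympTwoOver.Opposite

set_option autoImplicit false

namespace CfsgLib.Geo.SympTwoOver

open LinearMap (BilinForm)
open CfsgLib.Classical.Symp

variable {F : Type*} [Field F] [CharP F 2] [Fintype F] {V : Type*} [AddCommGroup V] [Module F V]
  [FiniteDimensional F V] {B : BilinForm F V} {L : Subgroup (V ≃ₗ[F] V)} {hA : B.IsAlt}

theorem card_of_bad_line (hL : L ≤ Sp B) (hB : B.Nondegenerate) (h4 : Module.finrank F V = 4)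
    (hF : Fintype.card F = 2)
    (hirr : ∀ W : Submodule F V, (∀ g ∈ L, ∀ w ∈ W, g w ∈ W) → W = ⊥ ∨ W = ⊤) (hbad : ¬ LineHyp hA L)
    (horb : ∀ (p : V), p ≠ 0 → ∃ g ∈ L, B p (g p) ≠ 0) :
    104 ≤ Nat.card L ∧ ∃ p : V, sg hA p 0 1 ∉ L := by
  classical
  haveI : Finite V := Module.finite_of_finite F
  haveI : Finite (V ≃ₗ[F] V) := Finite.of_injective (fun g => (g : V → V)) DFunLike.coe_injective
  have h2 : ∀ x : F, x = 0 ∨ x = 1 := fun x => by
    by_contra! hx
    have h1 : ({0, 1, x} : Finset F).card ≤ Fintype.card F := Finset.card_le_univ _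
    rw [Finset.card_eq_three.2 ⟨0, 1, x, zero_ne_one, hx.1.symm, hx.2.symm, rfl⟩, hF] at h1
    omega
  have hn : ∀ {x : F}, x ≠ 0 → x = 1 := fun {x} hx => (h2 x).resolve_left hx
  simp only [LineHyp, not_forall] at hbad
  obtain ⟨p, p', hp, hp', hperp, hspan, t, ht⟩ := hbad
  have ht1 : t = 1 := hn fun e => ht (by rw [e, zero_smul, sg_zero]; exact L.one_mem)
  rw [ht1, one_smul] at ht
  obtain ⟨c₁, hx₁⟩ := hp.full p' hperp
  have hc₁ : c₁ = 1 := hn fun e => ht (e ▸ hx₁)
  rw [hc₁] at hx₁
  have hperp' : B p p' = 0 := by rw [comm' hA]; exact hperp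
  have hspan' : p ∉ Submodule.span F {p'} := by
    intro h
    obtain ⟨k, hk⟩ := Submodule.mem_span_singleton.1 h
    have hk0 : k ≠ 0 := fun e => hp.ne_zero (by rw [← hk, e, zero_smul])
    exact hspan (Submodule.mem_span_singleton.2 ⟨k⁻¹, by rw [← hk, inv_smul_smul₀ hk0]⟩)
  have hx₂ : sg hA p' p 1 ∈ L := by
    have := line_key hB hp'.ne_zero hspan' hperp' hp'.full (r := 1) (C := 1)
      (by rwa [one_smul]) 1
    rwa [one_mul, one_smul, one_pow, mul_one] at this
  obtain ⟨f, hfp, hfp'⟩ := exists_two_values hB hp.ne_zero hspan 0 1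
  obtain ⟨u₀, hu₀, hu₀'⟩ := exists_two_values hB hp.ne_zero hspan 1 0
  obtain ⟨cf, hcf⟩ := hp.full f hfp
  obtain ⟨cu, hcu⟩ := hp'.full u₀ hu₀'
  have hfpc : B p f = 0 := by rw [comm' hA]; exact hfp
  have hpu : B p u₀ = 1 := by rw [comm' hA]; exact hu₀
  have hp'f : B p' f = 1 := by rw [comm' hA]; exact hfp'
  have hp'u : B p' u₀ = 0 := by rw [comm' hA]; exact hu₀'
  -- the stabiliser has at least eight elements
  have hw : ∀ k₁ k₂ : F, B (k₁ • p' + k₂ • f) p = 0 := fun k₁ k₂ => by simp [hperp, hfp]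
  have hex : ∀ k : F × F × F, ∃ g ∈ L, g p = p ∧ B (g f) f = k.2.2 ∧
      (k.2.2 = 0 → B (g u₀) p' = k.2.1 ∧ B (g u₀) f = B u₀ f + k.1) ∧
      (k.2.2 = 1 → B (sg hA p' p 1 (g u₀)) p' = k.2.1 ∧ B (sg hA p' p 1 (g u₀)) f = B u₀ f + k.1) := by
    rintro ⟨k₁, k₂, k₃⟩
    obtain ⟨c, hc⟩ := hp.full _ (hw k₁ k₂)
    have ep : sg hA p (k₁ • p' + k₂ • f) c p = p := by
      rw [sg_apply hA (hw k₁ k₂)]
      simp [hA p, hperp', hfpc]
    have ef : B (sg hA p (k₁ • p' + k₂ • f) c f) f = 0 := by
      rw [sg_apply hA (hw k₁ k₂)]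
      simp [hA f, hfp, hfpc]
    have eu : B (sg hA p (k₁ • p' + k₂ • f) c u₀) p' = k₂ ∧
        B (sg hA p (k₁ • p' + k₂ • f) c u₀) f = B u₀ f + k₁ := by
      rw [sg_apply hA (hw k₁ k₂)]
      constructor <;> simp [hu₀, hu₀', hA p', hA f, hperp', hfpc, hp'f, hfp']
    rcases h2 k₃ with rfl | rfl
    · exact ⟨_, hc, ep, ef, fun _ => eu, fun e => absurd e zero_ne_one⟩
    · refine ⟨sg hA p' p 1 * sg hA p (k₁ • p' + k₂ • f) c, L.mul_mem hx₂ hc, ?_, ?_,
        fun e => absurd e one_ne_zero, fun _ => ?_⟩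
      · rw [LinearEquiv.mul_apply, ep, sg_apply hA hperp']
        simp [hA p, hperp']
      · rw [LinearEquiv.mul_apply, sg_apply hA hperp']
        rw [sg_apply hA (hw k₁ k₂)]
        simp [hA f, hA p, hA p', hfp, hfpc, hfp', hp'f, hperp, hperp']
      · have hxx : sg hA p' p 1 ((sg hA p' p 1 * sg hA p (k₁ • p' + k₂ • f) c) u₀) =
            sg hA p (k₁ • p' + k₂ • f) c u₀ := by
          rw [← LinearEquiv.mul_apply, ← mul_assoc]
          conv_lhs => rw [show sg hA p' p 1 * sg hA p' p 1 = 1 from by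
            rw [sg_mul hA hperp' hperp', hA p, add_self' F, CharTwo.add_self_eq_zero, add_zero, sg_zero]]
          rw [one_mul]
        rw [hxx]
        exact eu
  choose Φ hΦL hΦp hΦf hΦ0 hΦ1 using hex
  let St : Subgroup L := MulAction.stabilizer L p
  have hstab : 8 ≤ Nat.card St := by
    let j : F × F × F → St := fun k => ⟨⟨Φ k, hΦL k⟩, hΦp k⟩
    have hj : Function.Injective j := by
      intro k k' e
      have e' : Φ k = Φ k' := congrArg (fun s : St => ((s : L) : V ≃ₗ[F] V)) e
      have h3 : k.2.2 = k'.2.2 := by rw [← hΦf, ← hΦf, e']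
      rcases h2 k.2.2 with h0 | h0
      · have a1 := hΦ0 k h0
        have a2 := hΦ0 k' (h3 ▸ h0)
        rw [e'] at a1
        exact Prod.ext (add_left_cancel (a1.2.symm.trans a2.2)) (Prod.ext (a1.1.symm.trans a2.1) h3)
      · have a1 := hΦ1 k h0
        have a2 := hΦ1 k' (h3 ▸ h0)
        rw [e'] at a1
        exact Prod.ext (add_left_cancel (a1.2.symm.trans a2.2)) (Prod.ext (a1.1.symm.trans a2.1) h3)
    haveI : Finite V := Module.finite_of_finite F
    have := Nat.card_le_card_of_injective j hj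
    rwa [Nat.card_prod, Nat.card_prod, Nat.card_eq_fintype_card, hF] at this
  -- the orbit
  have coord : ∀ x, B x p = 0 → B x p' = 0 → B x f = 0 → B x u₀ = 0 → x = 0 := by
    let φ : V →ₗ[F] (Fin 4 → F) := LinearMap.pi ![B.flip p, B.flip p', B.flip f, B.flip u₀]
    have hφ : Function.Surjective φ := fun y =>
      ⟨y 0 • u₀ + y 1 • f + (y 2 + y 0 * B u₀ f) • p' + (y 3 + y 1 * B f u₀) • p, funext fun i => by
        fin_cases i <;>
          simp [φ, LinearMap.pi_apply, hA p, hA p', hA f, hA u₀, hu₀, hu₀', hfp, hfp', hfpc, hpu, hp'f, hp'u, hperp,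
            hperp'] <;>
          ring_nf <;> simp [CharTwo.two_eq_zero]⟩
    have hinj : Function.Injective φ := (LinearMap.injective_iff_surjective_of_finrank_eq_finrank
      (by rw [h4, Module.finrank_fin_fun])).2 hφ
    intro x e1 e2 e3 e4
    refine hinj (funext fun i => ?_)
    fin_cases i <;> simp [φ, LinearMap.pi_apply, e1, e2, e3, e4]
  let O : Set V := {u | ∃ g ∈ L, g p = u}
  have hO : ∀ g ∈ L, ∀ u ∈ O, g u ∈ O := by
    rintro g hg _ ⟨g', hg', rfl⟩
    exact ⟨g * g', L.mul_mem hg hg', rfl⟩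
  have hsame : ∀ u v, u ∈ O → (B u p ≠ 0 ∨ B u p' ≠ 0) → B v p = B u p → B v p' = B u p' → v ∈ O := by
    intro u v hu hne e1 e2
    have hv : v = u + (B (u + v) u₀) • p + (B (u + v) f) • p' := by
      have := coord (u + v + B (u + v) u₀ • p + B (u + v) f • p')
        (by simp [hA p, hperp, e1, CharTwo.add_self_eq_zero]) (by simp [hA p', hperp', e2, CharTwo.add_self_eq_zero])
        (by
          simp only [map_add, LinearMap.add_apply, LinearMap.map_smul, LinearMap.smul_apply, smul_eq_mul, hfpc, hp'f]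
          linear_combination (B u f + B v f) * CharTwo.two_eq_zero (R := F))
        (by
          simp only [map_add, LinearMap.add_apply, LinearMap.map_smul, LinearMap.smul_apply, smul_eq_mul, hp'u, hpu]
          linear_combination (B u u₀ + B v u₀) * CharTwo.two_eq_zero (R := F))
      rw [add_assoc, add_assoc, add_comm v, ← add_assoc, ← add_assoc, add_eq_zero_iff_eq_neg,
        ← neg_one_smul F v, CharTwo.neg_eq, one_smul] at this
      exact this.symm
    generalize B (u + v) u₀ = i at hv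
    generalize B (u + v) f = j at hv
    have m1 := hO _ hx₁ u hu
    have m2 := hO _ hx₂ u hu
    rw [sg_apply hA hperp] at m1
    rw [sg_apply hA hperp'] at m2
    have n1 : u + (B u p + B u p') • p + B u p • p' ∈ O := by
      convert m1 using 1
      match_scalars <;> ring
    have n2 : u + B u p' • p + (B u p + B u p') • p' ∈ O := by
      convert m2 using 1
      match_scalars <;> ring
    have n3 : u + B u p • p + B u p' • p' ∈ O := by
      have m3 := hO _ hx₁ _ n2
      rw [sg_apply hA hperp] at m3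
      simp only [map_add, LinearMap.add_apply, LinearMap.map_smul, LinearMap.smul_apply, smul_eq_mul, hA p, hA p',
        hperp, hperp', mul_zero, add_zero, one_mul] at m3
      convert m3 using 1
      match_scalars <;> ring_nf <;> simp [CharTwo.two_eq_zero]
    rw [hv]
    rcases h2 (B u p) with ha | ha <;> rcases h2 (B u p') with hb | hb <;> rw [ha, hb] at n1 n2 n3 <;>
      rcases h2 i with rfl | rfl <;> rcases h2 j with rfl | rfl <;>
      simp only [zero_smul, one_smul, add_zero, zero_add, CharTwo.add_self_eq_zero] at n1 n2 n3 ⊢ <;>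
      first
        | exact hu
        | exact n1
        | exact n2
        | exact n3
        | simp [ha, hb] at hne
  obtain ⟨g₀, hg₀, hβ⟩ := horb p hp.ne_zero
  have hv₀ : g₀ p ∈ O := ⟨g₀, hg₀, rfl⟩
  have hall : ∀ u, (B u p ≠ 0 ∨ B u p' ≠ 0) → u ∈ O := by
    have stepf : ∀ u ∈ O, ∃ v ∈ O, B v p = B u p ∧ B v p' = B u p' + B u p := fun u hu => by
      refine ⟨_, hO _ hcf u hu, ?_, ?_⟩ <;> rw [sg_apply hA hfp] <;> simp [hA p, hfp, hfp', hperp']
    have stepu : ∀ u ∈ O, ∃ v ∈ O, B v p = B u p + B u p' ∧ B v p' = B u p' := fun u hu => by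
      refine ⟨_, hO _ hcu u hu, ?_, ?_⟩ <;> rw [sg_apply hA hu₀'] <;> simp [hA p', hu₀, hu₀', hperp]
    have e1 : B (g₀ p) p = 1 := hn (by rw [comm' hA]; exact hβ)
    obtain ⟨v₁, hv₁, a1, b1⟩ := stepf _ hv₀
    rw [e1] at a1 b1
    -- both vectors with first coordinate one
    have h10 : ∀ u, B u p = 1 → u ∈ O := by
      intro u hu
      rcases h2 (B u p' + B (g₀ p) p') with h | h
      · exact hsame _ u hv₀ (Or.inl (by rw [e1]; exact one_ne_zero)) (by rw [hu, e1]) (CharTwo.add_eq_zero.1 h)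
      · refine hsame _ u hv₁ (Or.inl (by rw [a1]; exact one_ne_zero)) (by rw [hu, a1]) ?_
        rw [b1]
        exact CharTwo.add_eq_zero.1 (by rw [← add_assoc, h, CharTwo.add_self_eq_zero])
    intro u hu
    by_cases hα : B u p = 0
    swap
    · exact h10 u (hn hα)
    have hb' := hn (hu.resolve_left (not_not.2 hα))
    obtain ⟨v₂, hv₂, a2, b2⟩ := stepu _ (h10 (u + u₀) (by simp [hα, hu₀]))
    simp [hα, hu₀, hu₀', hb', CharTwo.add_self_eq_zero] at a2 b2
    exact hsame _ u hv₂ (Or.inr (by rw [b2]; exact one_ne_zero)) (by rw [hα, a2]) (by rw [hb', b2])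
  have horbit : 13 ≤ Nat.card (MulAction.orbit L p) := by
    haveI : Finite V := Module.finite_of_finite F
    haveI : Fintype V := Fintype.ofFinite V
    let T : Finset V := insert p (Finset.univ.filter fun u => B u p ≠ 0 ∨ B u p' ≠ 0)
    have hT : 13 ≤ T.card := by
      have hcard : Fintype.card V = 16 := by
        rw [Module.card_eq_pow_finrank (K := F), hF, h4]
        norm_num
      have h1 : (Finset.univ.filter fun u => ¬ (B u p ≠ 0 ∨ B u p' ≠ 0)).card ≤ 4 := by
        refine (Finset.card_le_card (t := (Finset.univ : Finset (F × F)).image fun k => k.1 • p + k.2 • p')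
          fun u hu => ?_).trans (Finset.card_image_le.trans (by simp [hF]))
        obtain ⟨e1, e2⟩ := not_or.1 (Finset.mem_filter.1 hu).2
        rw [not_not] at e1 e2
        refine Finset.mem_image.2 ⟨(B u u₀, B u f), Finset.mem_univ _, ?_⟩
        have := coord (u + B u u₀ • p + B u f • p') (by simp [e1, hA p, hperp]) (by simp [e2, hA p', hperp'])
          (by simp [hfpc, hp'f, CharTwo.add_self_eq_zero]) (by simp [hp'u, hpu, CharTwo.add_self_eq_zero])
        rw [add_assoc, add_eq_zero_iff_eq_neg, ← neg_one_smul F (_ + _), CharTwo.neg_eq, one_smul] at this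
        exact this.symm
      have h2' := Finset.card_filter_add_card_filter_not (s := (Finset.univ : Finset V))
        (fun u => B u p ≠ 0 ∨ B u p' ≠ 0)
      rw [Finset.card_univ, hcard] at h2'
      rw [Finset.card_insert_of_notMem (by simp [hA p, hperp'])]
      omega
    have hsub : (T : Set V) ⊆ MulAction.orbit L p := by
      intro u hu
      rcases Finset.mem_insert.1 hu with rfl | hu
      · exact MulAction.mem_orbit_self _
      · obtain ⟨g, hg, e⟩ := hall u (Finset.mem_filter.1 hu).2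
        exact ⟨⟨g, hg⟩, e⟩
    have := Nat.card_mono (Set.toFinite _) hsub
    rw [Nat.card_coe_set_eq, Set.ncard_coe_finset] at this
    exact hT.trans this
  refine ⟨?_, p, fun h => one_ne_zero (hp.sfree 1 h)⟩
  haveI : Finite V := Module.finite_of_finite F
  have := Nat.card_congr (MulAction.orbitProdStabilizerEquivGroup L p)
  rw [Nat.card_prod] at this
  rw [← this]
  exact (show 104 ≤ 13 * 8 by norm_num).trans (Nat.mul_le_mul horbit hstab)

end CfsgLib.Geo.SympTwoOver
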