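/-
Four dimensions over the field with two elements: isometries up to the two Siegel groups are products of reflections.
-/
import Cfsg.Agent.Lib.Geo.SympTwoOver.Kernel

set_option autoImplicit false

namespace CfsgLib.Geo.SympTwoOver

open LinearMap (BilinForm)
open CfsgLib.Classical.Symp CfsgLib.Classical.Quad
open QuadraticMap (polar polarBilin)

variable {F : Type*} [Field F] [CharP F 2] [Fintype F] {V : Type*} [AddCommGroup V] [Module F V]
  [FiniteDimensional F V] {B : BilinForm F V} {hA : B.IsAlt} {a b : V}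
  {Q : QuadraticForm F V}

theorem small_gen (hpol : ∀ u v, QuadraticMap.polar (⇑Q) u v = B u v) (hQa : Q a = 0) (hQb : Q b = 0)
    (hab : B a b = 1) (hB : B.Nondegenerate) (h4 : Module.finrank F V = 4) (h2 : ∀ x : F, x = 0 ∨ x = 1)
    (g₀ : OQ Q) : ∃ k ∈ pairQ hA Q a b, k * g₀ ∈ reflGroup Q := by
  have h1 : ∀ {x : F}, x ≠ 0 → x = 1 := fun {x} hx => (h2 x).resolve_left hx
  have hle : 4 ≤ Module.finrank F V := h4.ge
  have hba : B b a = 1 := by rw [comm' hA]; exact hab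
  -- fix `b`
  obtain ⟨g, k₁, hk₁, hgb, hg0⟩ : ∃ g : OQ Q, ∃ k ∈ pairQ hA Q a b, (g : V ≃ₗ[F] V) b = b ∧ g = k * g₀ := by
    have hp : Q ((g₀ : V ≃ₗ[F] V) b) = 0 := by rw [OQ.map_apply]; exact hQb
    have hp0 : (g₀ : V ≃ₗ[F] V) b ≠ 0 := by
      rw [Ne, LinearEquiv.map_eq_zero_iff]
      intro e
      rw [e] at hab
      simp at hab
    obtain ⟨k, hk, c, hc, e⟩ := exists_map_singular (hA := hA) hpol hQa hQb hab hB hle hp hp0
    rw [h1 hc, one_smul] at e
    set k' : OQ Q := ⟨k, siegelPair_le_OQ (hA := hA) hpol hQa hQb hk⟩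
    refine ⟨k'⁻¹ * g₀, k'⁻¹, inv_mem (show k' ∈ pairQ hA Q a b from hk), ?_, rfl⟩
    show k.symm ((g₀ : V ≃ₗ[F] V) b) = b
    rw [← e, LinearEquiv.symm_apply_apply]
  -- fix `a`
  obtain ⟨g', k₂, hk₂, hga, hgb', hg1⟩ : ∃ g' : OQ Q, ∃ k ∈ pairQ hA Q a b,
      (g' : V ≃ₗ[F] V) a = a ∧ (g' : V ≃ₗ[F] V) b = b ∧ g' = k * g := by
    have hp : Q ((g : V ≃ₗ[F] V) a) = 0 := by rw [OQ.map_apply]; exact hQa
    have hpb : B ((g : V ≃ₗ[F] V) a) b = 1 := by
      conv_lhs => rw [← hgb]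
      rw [← hpol, OQ.map_polar, hpol, hab]
    obtain ⟨k, hk, e, ekb⟩ := exists_map_b (hA := hA) (a := b) (b := a) hpol hQb hQa hba hp (by simp [hpb])
    rw [siegelPair_swap] at hk
    rw [hpb, one_smul] at e
    set k' : OQ Q := ⟨k, siegelPair_le_OQ (hA := hA) hpol hQa hQb hk⟩
    refine ⟨k'⁻¹ * g, k'⁻¹, inv_mem (show k' ∈ pairQ hA Q a b from hk), ?_, ?_, rfl⟩
    · show k.symm ((g : V ≃ₗ[F] V) a) = a
      rw [← e, LinearEquiv.symm_apply_apply]
    · show k.symm ((g : V ≃ₗ[F] V) b) = b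
      rw [hgb, LinearEquiv.symm_apply_eq, ekb]
  refine ⟨k₂ * k₁, mul_mem hk₂ hk₁, ?_⟩
  rw [mul_assoc, ← hg0, ← hg1]
  obtain ⟨z₀, hz₀, hz0, hQz₀⟩ := exists_perp_value hpol hQa hQb hab hA hB hle 1 one_ne_zero
  obtain ⟨f, hf, hfz⟩ := exists_mem_perp hA hB hab hz₀ hz0 1
  have hz' := mem_perp₂.1 hz₀
  have hf' := mem_perp₂.1 hf
  have hzf : B z₀ f = 1 := by rw [comm' hA]; exact hfz
  -- coordinates
  have coord : ∀ x, B x a = 0 → B x b = 0 → B x z₀ = 0 → B x f = 0 → x = 0 := by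
    let φ : V →ₗ[F] (Fin 4 → F) := LinearMap.pi ![B.flip a, B.flip b, B.flip z₀, B.flip f]
    have hφ : Function.Surjective φ := fun y =>
      ⟨y 0 • b + y 1 • a + y 2 • f + y 3 • z₀, funext fun i => by
        fin_cases i <;>
          simp [φ, LinearMap.pi_apply, hA a, hA b, hA f, hA z₀, hab, hba, hz'.1, hz'.2, hf'.1, hf'.2, hfz, hzf,
            comm' hA a z₀, comm' hA b z₀, comm' hA a f, comm' hA b f]⟩
    have hinj : Function.Injective φ := (LinearMap.injective_iff_surjective_of_finrank_eq_finrank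
      (by rw [h4, Module.finrank_fin_fun])).2 hφ
    intro x e1 e2 e3 e4
    refine hinj (funext fun i => ?_)
    fin_cases i <;> simp [φ, LinearMap.pi_apply, e1, e2, e3, e4]
  have ext4 : ∀ h : OQ Q, (h : V ≃ₗ[F] V) a = a → (h : V ≃ₗ[F] V) b = b → (h : V ≃ₗ[F] V) z₀ = z₀ →
      (h : V ≃ₗ[F] V) f = f → h = 1 := by
    intro h ea eb ez ef
    refine Subtype.ext (LinearEquiv.ext fun x => ?_)
    show (h : V ≃ₗ[F] V) x = x
    have key : ∀ y, (h : V ≃ₗ[F] V) y = y → B ((h : V ≃ₗ[F] V) x + x) y = 0 := fun y hy => by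
      have e : B ((h : V ≃ₗ[F] V) x) y = B x y := by
        conv_lhs => rw [← hy]
        rw [← hpol, OQ.map_polar, hpol]
      rw [map_add, LinearMap.add_apply, e, CharTwo.add_self_eq_zero]
    have e0 := coord _ (key a ea) (key b eb) (key z₀ ez) (key f ef)
    rw [← sub_eq_zero, ← e0, sub_eq_add_neg, ← neg_one_smul F x, CharTwo.neg_eq, one_smul]
  have hne : Q z₀ ≠ 0 := by rw [hQz₀]; exact one_ne_zero
  have fixed : ∀ h : OQ Q, (h : V ≃ₗ[F] V) a = a → (h : V ≃ₗ[F] V) b = b → (h : V ≃ₗ[F] V) z₀ = z₀ →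
      h ∈ reflGroup Q := by
    intro h ea eb ez
    have hB' : ∀ x y, B ((h : V ≃ₗ[F] V) x) ((h : V ≃ₗ[F] V) y) = B x y := fun x y => by
      rw [← hpol, OQ.map_polar, hpol]
    have d1 : B ((h : V ≃ₗ[F] V) f) a = 0 := by rw [← ea, hB']; exact hf'.1
    have d2 : B ((h : V ≃ₗ[F] V) f) b = 0 := by rw [← eb, hB']; exact hf'.2
    have d3 : B ((h : V ≃ₗ[F] V) f) z₀ = 1 := by rw [← ez, hB']; exact hfz
    have e0 : (h : V ≃ₗ[F] V) f = f + B ((h : V ≃ₗ[F] V) f) f • z₀ := by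
      have := coord ((h : V ≃ₗ[F] V) f + (f + B ((h : V ≃ₗ[F] V) f) f • z₀))
        (by simp [d1, hf'.1, hz'.1]) (by simp [d2, hf'.2, hz'.2])
        (by simp [d3, hfz, hA z₀, CharTwo.add_self_eq_zero])
        (by simp [hA f, hzf, CharTwo.add_self_eq_zero])
      rw [add_eq_zero_iff_eq_neg, ← neg_one_smul F (f + _), CharTwo.neg_eq, one_smul] at this
      exact this
    rcases h2 (B ((h : V ≃ₗ[F] V) f) f) with hc | hc
    · rw [hc, zero_smul, add_zero] at e0
      rw [ext4 h ea eb ez e0]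
      exact one_mem _
    · rw [hc, one_smul] at e0
      have hr : ∀ x, B x z₀ = 0 → (Classical.Quad.refl hne : V ≃ₗ[F] V) x = x := fun x hx => by
        rw [refl_apply, hpol, hx, mul_zero, zero_smul, sub_zero]
      have e1 : Classical.Quad.refl hne * h = 1 := ext4 _
        (by rw [Subgroup.coe_mul, LinearEquiv.mul_apply, ea, hr a (by rw [comm' hA]; exact hz'.1)])
        (by rw [Subgroup.coe_mul, LinearEquiv.mul_apply, eb, hr b (by rw [comm' hA]; exact hz'.2)])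
        (by rw [Subgroup.coe_mul, LinearEquiv.mul_apply, ez, hr z₀ (hA z₀)])
        (by
          rw [Subgroup.coe_mul, LinearEquiv.mul_apply, e0, refl_apply, hpol, map_add, LinearMap.add_apply, hfz,
            hA z₀, add_zero, hQz₀, inv_one, one_mul, one_smul, add_sub_cancel_right])
      rw [← inv_eq_of_mul_eq_one_right e1]
      exact inv_mem (refl_mem_reflGroup hne)
  by_cases hz : (g' : V ≃ₗ[F] V) z₀ = z₀
  · exact fixed g' hga hgb' hz
  set z₁ := (g' : V ≃ₗ[F] V) z₀ with hz₁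
  have hB' : ∀ x y, B ((g' : V ≃ₗ[F] V) x) ((g' : V ≃ₗ[F] V) y) = B x y := fun x y => by
    rw [← hpol, OQ.map_polar, hpol]
  have d1 : B z₁ a = 0 := by rw [hz₁, ← hga, hB']; exact hz'.1
  have d2 : B z₁ b = 0 := by rw [hz₁, ← hgb', hB']; exact hz'.2
  have hQz₁ : Q z₁ = 1 := by rw [hz₁, OQ.map_apply]; exact hQz₀
  have d3 : B z₁ z₀ = 1 := by
    refine h1 fun e => ?_
    have e0 := coord (z₁ + B z₁ f • z₀) (by simp [d1, hz'.1]) (by simp [d2, hz'.2]) (by simp [e, hA z₀])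
      (by simp [hzf, CharTwo.add_self_eq_zero])
    rw [add_eq_zero_iff_eq_neg, ← neg_smul, CharTwo.neg_eq] at e0
    rcases h2 (B z₁ f) with hc | hc
    · rw [hc, zero_smul] at e0
      rw [e0, QuadraticMap.map_zero] at hQz₁
      exact zero_ne_one hQz₁
    · rw [hc, one_smul] at e0
      exact hz e0
  have hQs : Q (z₁ + z₀) ≠ 0 := by
    rw [quad_add hpol, hQz₁, hQz₀, d3, CharTwo.add_self_eq_zero, zero_add]
    exact one_ne_zero
  set r : OQ Q := Classical.Quad.refl hQs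
  have hr : ∀ x, B x (z₁ + z₀) = 0 → (r : V ≃ₗ[F] V) x = x := fun x hx => by
    rw [refl_apply, hpol, hx, mul_zero, zero_smul, sub_zero]
  have hm : r * g' ∈ reflGroup Q := fixed _
    (by rw [Subgroup.coe_mul, LinearEquiv.mul_apply, hga,
      hr a (by rw [map_add, comm' hA a, comm' hA a z₀, d1, hz'.1, add_zero])])
    (by rw [Subgroup.coe_mul, LinearEquiv.mul_apply, hgb',
      hr b (by rw [map_add, comm' hA b, comm' hA b z₀, d2, hz'.2, add_zero])])
    (by
      rw [Subgroup.coe_mul, LinearEquiv.mul_apply, ← hz₁, refl_apply, hpol,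
        show B z₁ (z₁ + z₀) = 1 by rw [map_add, hA z₁, d3, zero_add],
        quad_add hpol, hQz₁, hQz₀, d3, CharTwo.add_self_eq_zero, zero_add, inv_one, one_mul, one_smul,
        sub_add_cancel_left, ← neg_one_smul F z₀, CharTwo.neg_eq, one_smul])
  exact ((reflGroup Q).mul_mem_cancel_left (refl_mem_reflGroup hQs)).1 hm

end CfsgLib.Geo.SympTwoOver
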