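/-
The overgroups of a Siegel group in four dimensions over two elements.
-/
import Cfsg.Agent.Lib.Geo.SympTwoOver.Main
import Cfsg.Agent.Lib.Geo.SympTwoOver.SmallRefl
import Cfsg.Agent.Lib.Geo.SympTwoOver.SmallLine
import Cfsg.Agent.Lib.Geo.SympTwoOver.Six

set_option autoImplicit false

namespace CfsgLib.Geo.SympTwoOver

open LinearMap (BilinForm)
open CfsgLib.Classical.Symp CfsgLib.Classical.Quad CfsgLib.Known.OmegaCriterion

variable {F : Type*} [Field F] [CharP F 2] [Fintype F] {V : Type*} [AddCommGroup V] [Module F V]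
  [FiniteDimensional F V] {B : BilinForm F V} {L : Subgroup (V ≃ₗ[F] V)} {hA : B.IsAlt} {a : V}

theorem overgroup_small (hL : L ≤ Sp B) (hB : B.Nondegenerate) (h4 : Module.finrank F V = 4)
    (hF : Fintype.card F = 2) (e6 : Sp B ≃* Equiv.Perm (Fin 6)) (ha : a ≠ 0) (hFull : Full hA L a)
    (hirr : ∀ W : Submodule F V, (∀ g ∈ L, ∀ w ∈ W, g w ∈ W) → W = ⊥ ∨ W = ⊤) :
    L = Sp B ∨ (∃ Q : QuadraticForm F V, (∀ u v, QuadraticMap.polar (⇑Q) u v = B u v) ∧
      (L = OQ Q ∨ ∀ g, g ∈ L ↔ ∃ hg : g ∈ OQ Q, par (⟨g, hg⟩ : OQ Q) = 0)) ∨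
      Nonempty (L ≃* alternatingGroup (Fin 6)) ∨ Nonempty (L ≃* Equiv.Perm (Fin 5)) := by
  classical
  have h2 : ∀ x : F, x = 0 ∨ x = 1 := fun x => by
    by_contra! hx
    have h1 : ({0, 1, x} : Finset F).card ≤ Fintype.card F := Finset.card_le_univ _
    rw [Finset.card_eq_three.2 ⟨0, 1, x, zero_ne_one, hx.1.symm, hx.2.symm, rfl⟩, hF] at h1
    omega
  by_cases hS : SFree hA L a
  swap
  · exact Or.inl (eq_Sp_of_transvection hL hB h4.ge ha hFull hS hirr)
  right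
  by_cases hline : LineHyp hA L
  · left
    obtain ⟨g, hg, hβ⟩ := exists_image_not_perp hB ha hirr
    have hpa : Pt hA L a := ⟨ha, hFull, hS⟩
    have h : Opp hA L a ((B a (g a))⁻¹ • g a) := ⟨hL, hline, hpa,
      (hpa.map hL hg).smul (inv_ne_zero hβ), by rw [LinearMap.map_smul, smul_eq_mul, inv_mul_cancel₀ hβ]⟩
    obtain ⟨Q, hpol, hQa, hQb, hQaL, hQbL⟩ := h.exists_form hB h4.ge
    exact ⟨Q, hpol, orth_case h hB h4.ge hpol hQa hQb hQaL hQbL
      (small_gen hpol hQa hQb h.hab hB h4 h2)⟩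
  · right
    obtain ⟨hcard, p, hp⟩ := card_of_bad_line hL hB h4 hF hirr hline fun x hx => exists_image_not_perp hB hx hirr
    set H := (L.subgroupOf (Sp B)).map e6.toMonoidHom
    let e : L ≃* H := (Subgroup.subgroupOfEquivOfLe hL).symm.trans (e6.subgroupMap (L.subgroupOf (Sp B)))
    have hH : 104 ≤ Nat.card H := by rwa [← Nat.card_congr e.toEquiv]
    have hne : H ≠ ⊤ := by
      intro h
      refine hp ?_
      have hm : e6 ⟨sg hA p 0 1, sg_mem_Sp hA (by simp) 1⟩ ∈ H := h ▸ Subgroup.mem_top _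
      obtain ⟨x, hx, ex⟩ := hm
      rw [e6.injective ex] at hx
      exact hx
    exact (six_subgroups H hH hne).imp (fun ⟨f⟩ => ⟨e.trans f⟩) (fun ⟨f⟩ => ⟨e.trans f⟩)

end CfsgLib.Geo.SympTwoOver
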