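/-
The overgroups of a large two-group without transvections: matrix form.
-/
import Cfsg.Agent.Lib.Geo.SympTwoOver.Small
import Cfsg.Agent.Lib.Geo.SympTwoOver.Core
import Cfsg.Agent.Lib.Classical.Symplectic.Matrix
import Cfsg.Agent.Lib.Classical.CharTwo.OmegaParity
import Cfsg.Agent.Lib.Classical.PermModule
import Cfsg.Agent.Lib.Core.Cores

set_option autoImplicit false

namespace CfsgLib.Geo.SympTwoOver

open LinearMap (BilinForm)
open CfsgLib.Classical CfsgLib.Classical.Quad CfsgLib.Known.OmegaCriterion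
open CfsgLib.Classical.Symp (sympBil sympBil_apply sympBil_isAlt sympBil_nondegenerate sympForm_expand Sp)
open scoped Matrix

variable {F : Type*} [Field F]

/-- Invertible matrices as linear automorphisms. -/
noncomputable def glEquiv {ι : Type} [Fintype ι] [DecidableEq ι] : GL ι F ≃* ((ι → F) ≃ₗ[F] (ι → F)) :=
  Matrix.GeneralLinearGroup.toLin.trans (LinearMap.GeneralLinearGroup.generalLinearEquiv F _)

theorem glEquiv_apply {ι : Type} [Fintype ι] [DecidableEq ι] (g : GL ι F) (v : ι → F) :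
    glEquiv g v = (g : Matrix ι ι F) *ᵥ v := rfl

variable [CharP F 2] {n : ℕ}

theorem pairing_eq (u v : Fin n ⊕ Fin n → F) :
    ∑ i : Fin n, (u (Sum.inl i) * v (Sum.inr i) + u (Sum.inr i) * v (Sum.inl i)) = sympBil n F u v := by
  rw [sympBil_apply, sympForm_expand]
  refine Finset.sum_congr rfl fun i _ => ?_
  rw [CharTwo.sub_eq_add]
  ring

theorem mem_preserving_iff (g : GL (Fin n ⊕ Fin n) F) :
    g ∈ Cfsg.preserving (Units.coeHom (Matrix (Fin n ⊕ Fin n) (Fin n ⊕ Fin n) F))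
      (fun u v : (Fin n ⊕ Fin n → F) => ∑ i : Fin n, (u (Sum.inl i) * v (Sum.inr i) + u (Sum.inr i) * v (Sum.inl i))) ↔
      glEquiv g ∈ Sp (sympBil n F) := by
  constructor <;> intro h u v
  · have := h u v
    simp only [pairing_eq] at this
    exact this
  · show (fun u v : (Fin n ⊕ Fin n → F) => ∑ i : Fin n, (u (Sum.inl i) * v (Sum.inr i) + u (Sum.inr i) * v (Sum.inl i)))
      ((g : Matrix _ _ F) *ᵥ u) ((g : Matrix _ _ F) *ᵥ v) = _
    simp only [pairing_eq]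
    exact h u v

variable [Fintype F]

theorem main (hn : 2 ≤ n) (a : Fin n ⊕ Fin n → F) (ha : a ≠ 0) (X : Subgroup (GL (Fin n ⊕ Fin n) F))
    (hXO : ∀ H : Subgroup (GL (Fin n ⊕ Fin n) F),
      (∀ g : GL (Fin n ⊕ Fin n) F, g ∈ H ↔ (g ∈ Cfsg.preserving (Units.coeHom (Matrix (Fin n ⊕ Fin n) (Fin n ⊕ Fin n) F)) (fun u v : (Fin n ⊕ Fin n → F) => ∑ i : Fin n, (u (Sum.inl i) * v (Sum.inr i) + u (Sum.inr i) * v (Sum.inl i))) ∧ Matrix.mulVec (g : Matrix (Fin n ⊕ Fin n) (Fin n ⊕ Fin n) F) a = a)) →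
      X ≤ (Cfsg.pCore 2 ↥H).map H.subtype)
    (hcard : Nat.card ↥X = Fintype.card F ^ (2 * n - 2))
    (hntv : ∀ x ∈ X, ((x : Matrix (Fin n ⊕ Fin n) (Fin n ⊕ Fin n) F) - 1).rank ≠ 1)
    (L : Subgroup (GL (Fin n ⊕ Fin n) F)) (hXL : X ≤ L) (hLG : L ≤ Cfsg.preserving (Units.coeHom (Matrix (Fin n ⊕ Fin n) (Fin n ⊕ Fin n) F)) (fun u v : (Fin n ⊕ Fin n → F) => ∑ i : Fin n, (u (Sum.inl i) * v (Sum.inr i) + u (Sum.inr i) * v (Sum.inl i))))
    (hirr : ∀ W : Submodule F (Fin n ⊕ Fin n → F), (∀ g ∈ L, ∀ w ∈ W, Matrix.mulVec (g : Matrix (Fin n ⊕ Fin n) (Fin n ⊕ Fin n) F) w ∈ W) → W = ⊥ ∨ W = ⊤) :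
    L = Cfsg.preserving (Units.coeHom (Matrix (Fin n ⊕ Fin n) (Fin n ⊕ Fin n) F)) (fun u v : (Fin n ⊕ Fin n → F) => ∑ i : Fin n, (u (Sum.inl i) * v (Sum.inr i) + u (Sum.inr i) * v (Sum.inl i))) ∨
    (∃ Q : QuadraticForm F (Fin n ⊕ Fin n → F), (∀ u v, QuadraticMap.polar ⇑Q u v = (fun u v : (Fin n ⊕ Fin n → F) => ∑ i : Fin n, (u (Sum.inl i) * v (Sum.inr i) + u (Sum.inr i) * v (Sum.inl i))) u v) ∧
      (L = Cfsg.isometryGroup F ⇑Q ∨
        ∀ g : GL (Fin n ⊕ Fin n) F, g ∈ L ↔ (g ∈ Cfsg.isometryGroup F ⇑Q ∧ Even ((g : Matrix (Fin n ⊕ Fin n) (Fin n ⊕ Fin n) F) - 1).rank))) ∨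
    (Fintype.card F = 2 ∧ n = 2 ∧ (Nonempty (↥L ≃* ↥(alternatingGroup (Fin 6))) ∨ Nonempty (↥L ≃* Equiv.Perm (Fin 5)))) := by
  classical
  set B := sympBil n F with hBdef
  set G := Cfsg.preserving (Units.coeHom (Matrix (Fin n ⊕ Fin n) (Fin n ⊕ Fin n) F)) (fun u v : (Fin n ⊕ Fin n → F) => ∑ i : Fin n, (u (Sum.inl i) * v (Sum.inr i) + u (Sum.inr i) * v (Sum.inl i)))
  have hA : B.IsAlt := sympBil_isAlt n F
  have hB : B.Nondegenerate := sympBil_nondegenerate n F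
  have hdim : Module.finrank F (Fin n ⊕ Fin n → F) = 2 * n := Symp.finrank_sympSpace n F
  let θ : GL (Fin n ⊕ Fin n) F ≃* ((Fin n ⊕ Fin n → F) ≃ₗ[F] (Fin n ⊕ Fin n → F)) := glEquiv
  -- the stabiliser of `a`
  let H : Subgroup (GL (Fin n ⊕ Fin n) F) :=
    G ⊓ Subgroup.comap θ.toMonoidHom (MulAction.stabilizer ((Fin n ⊕ Fin n → F) ≃ₗ[F] (Fin n ⊕ Fin n → F)) a)
  have hH := hXO H fun g => by
    refine Subgroup.mem_inf.trans (and_congr Iff.rfl ?_)
    rw [Subgroup.mem_comap, MulAction.mem_stabilizer_iff]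
    rfl
  set P := ((Cfsg.pCore 2 ↥H).map H.subtype).map θ.toMonoidHom with hPdef
  have hPmem : ∀ x ∈ P, x ∈ Sp B ∧ x a = a := by
    rintro _ ⟨g, ⟨h, -, rfl⟩, rfl⟩
    exact ⟨(mem_preserving_iff _).1 h.2.1, h.2.2⟩
  have hP2 : IsPGroup 2 P := ((CfsgLib.Core.isPGroup_pCore 2 ↥H).map _).map _
  have hnorm : ∀ (v : (Fin n ⊕ Fin n → F)) (c : F), B v a = 0 → ∀ x ∈ P, sg hA v 0 c * x * sg hA v 0 c ∈ P := by
    rintro v c hv _ ⟨g, ⟨h, hh, rfl⟩, rfl⟩
    have hv0 : B (0 : (Fin n ⊕ Fin n → F)) v = 0 := by simp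
    set t := θ.symm (sg hA v 0 c) with ht
    have htθ : θ t = sg hA v 0 c := θ.apply_symm_apply _
    have htH : t ∈ H := by
      refine ⟨(mem_preserving_iff t).2 ?_, ?_⟩
      · show θ t ∈ _
        rw [htθ]
        exact sg_mem_Sp hA hv0 c
      · show θ t a = a
        rw [htθ, sg_apply hA hv0, comm' hA a v, hv]
        simp
    have hinv : (sg hA v 0 c)⁻¹ = sg hA v 0 c := sg_inv hA hv0 c
    refine ⟨t * (h : GL (Fin n ⊕ Fin n) F) * t⁻¹, ⟨⟨t, htH⟩ * h * ⟨t, htH⟩⁻¹,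
      Subgroup.Normal.conj_mem inferInstance h hh _, rfl⟩, ?_⟩
    show θ (t * (h : GL (Fin n ⊕ Fin n) F) * t⁻¹) = _
    rw [map_mul, map_mul, map_inv, htθ, hinv]
    rfl
  have hfree : ∀ c, sg hA a 0 c ∈ X.map θ.toMonoidHom → c = 0 := by
    rintro c ⟨x, hx, e⟩
    by_contra hc
    refine hntv x hx ?_
    have hrange : LinearMap.range ((x : Matrix (Fin n ⊕ Fin n) (Fin n ⊕ Fin n) F) - 1).mulVecLin =
        Submodule.span F {a} := by
      have hval : ∀ u, ((x : Matrix (Fin n ⊕ Fin n) (Fin n ⊕ Fin n) F) - 1).mulVecLin u = (c * B u a) • a := fun u => by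
        rw [Matrix.mulVecLin_apply, Matrix.sub_mulVec, Matrix.one_mulVec]
        show θ x u - u = _
        rw [show θ x = sg hA a 0 c from e, sg_apply hA (by simp)]
        simp
      refine le_antisymm ?_ ?_
      · rintro _ ⟨u, rfl⟩
        rw [hval]
        exact Submodule.smul_mem _ _ (Submodule.mem_span_singleton_self a)
      · obtain ⟨f, hf⟩ := Submodule.exists_dual_map_eq_bot_of_notMem (show a ∉ (⊥ : Submodule F (Fin n ⊕ Fin n → F)) by simpa using ha)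
          inferInstance
        obtain ⟨u, hu⟩ := exists_polar_eq hB ((c * f a)⁻¹ • f)
        rw [Submodule.span_le, Set.singleton_subset_iff]
        exact ⟨u, by rw [hval, hu, LinearMap.smul_apply, smul_eq_mul,
          show c * ((c * f a)⁻¹ * f a) = 1 by field_simp [hf.1], one_smul]⟩
    rw [Matrix.rank, hrange, finrank_span_singleton ha]
  have hXP : X.map θ.toMonoidHom ≤ P := Subgroup.map_mono hH
  have hFull : Full hA (L.map θ.toMonoidHom) a := by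
    refine full_of_card hA hB ha (Subgroup.map_mono hXL) (fun x hx => exists_sg_of_twoGroup hA hB (by omega) ha hP2
      (fun y hy => (hPmem y hy).1) (fun y hy => (hPmem y hy).2) hnorm (hXP hx)) ?_ hfree
    rw [Subgroup.card_map_of_injective θ.injective, hcard, hdim]
  set L' := L.map θ.toMonoidHom with hL'def
  have hmemL : ∀ g, g ∈ L ↔ θ g ∈ L' := fun g => (Subgroup.mem_map_iff_mem θ.injective).symm
  have hL' : L' ≤ Sp B := by
    rintro _ ⟨g, hg, rfl⟩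
    exact (mem_preserving_iff g).1 (hLG hg)
  have hirr' : ∀ W : Submodule F (Fin n ⊕ Fin n → F), (∀ g ∈ L', ∀ w ∈ W, g w ∈ W) → W = ⊥ ∨ W = ⊤ := fun W hW =>
    hirr W fun g hg w hw => hW _ ((hmemL g).1 hg) w hw
  have hcases : L' = Sp B ∨ (∃ Q : QuadraticForm F (Fin n ⊕ Fin n → F), (∀ u v, QuadraticMap.polar (⇑Q) u v = B u v) ∧
      (L' = OQ Q ∨ ∀ g, g ∈ L' ↔ ∃ hg : g ∈ OQ Q, par (⟨g, hg⟩ : OQ Q) = 0)) ∨
      (Fintype.card F = 2 ∧ n = 2 ∧
        (Nonempty (L' ≃* alternatingGroup (Fin 6)) ∨ Nonempty (L' ≃* Equiv.Perm (Fin 5)))) := by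
    by_cases hex : (∃ x : F, x ≠ 0 ∧ x ≠ 1) ∨ 5 ≤ Module.finrank F (Fin n ⊕ Fin n → F)
    · exact (overgroup hL' hB (by omega) ha hFull hirr' hex).imp id Or.inl
    · push Not at hex
      have hn2 : n = 2 := by omega
      have hq : Fintype.card F = 2 := by
        refine le_antisymm ?_ Fintype.one_lt_card
        rw [← Finset.card_univ]
        refine (Finset.card_le_card (t := {0, 1}) fun x _ => ?_).trans Finset.card_le_two
        by_cases hx : x = 0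
        · simp [hx]
        · simp [hex.1 x hx]
      subst hn2
      obtain ⟨e⟩ := symplectic_four_two_equiv hq
      exact (overgroup_small hL' hB (by omega) hq ((Symp.symplecticEquiv 2 F).symm.trans e) ha hFull hirr').imp id
        (Or.imp id fun h => ⟨hq, rfl, h⟩)
  rcases hcases with h | ⟨Q, hpol, h⟩ | ⟨hq, hn2, h⟩
  · refine Or.inl (Subgroup.ext fun g => ?_)
    rw [hmemL, h]
    exact (mem_preserving_iff g).symm
  · refine Or.inr (Or.inl ⟨Q, fun u v => (hpol u v).trans (pairing_eq u v).symm, ?_⟩)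
    have hiso : ∀ g, g ∈ Cfsg.isometryGroup F ⇑Q ↔ θ g ∈ OQ Q := fun g => Iff.rfl
    rcases h with h | h
    · exact Or.inl (Subgroup.ext fun g => by rw [hmemL, h, hiso])
    · refine Or.inr fun g => ?_
      rw [hmemL, h]
      constructor
      · rintro ⟨hg, hp⟩
        refine ⟨(hiso g).2 hg, ?_⟩
        rw [← CfsgLib.Classical.CharTwo.finrank_mov_oEquiv (Q := Q) ⟨g, (hiso g).2 hg⟩,
          ← ZMod.natCast_eq_zero_iff_even]
        exact hp
      · rintro ⟨hg, hp⟩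
        refine ⟨(hiso g).1 hg, ?_⟩
        rw [← CfsgLib.Classical.CharTwo.finrank_mov_oEquiv (Q := Q) ⟨g, hg⟩, ← ZMod.natCast_eq_zero_iff_even] at hp
        exact hp
  · let e : L ≃* L' := θ.subgroupMap L
    exact Or.inr (Or.inr ⟨hq, hn2, h.imp (fun ⟨f⟩ => ⟨e.trans f⟩) (fun ⟨f⟩ => ⟨e.trans f⟩)⟩)

end CfsgLib.Geo.SympTwoOver
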